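/- 2-groups without a normal four subgroup, and the number of involutions. -/
import Mathlib
import Cfsg.Agent.Solvable.Nilpotent
import Cfsg.Agent.Coprime.Generation
import Cfsg.Agent.FgsSix.Frobenius

set_option autoImplicit false

namespace CfsgLib.SubgroupCounts69

open Subgroup
open scoped commutatorElement

variable {X : Type*} [Group X]

/-- `X` has a normal four subgroup. -/
def HasFour (X : Type*) [Group X] : Prop :=
  ∃ E : Subgroup X, E.Normal ∧ Nat.card E = 4 ∧ ∀ e ∈ E, e ^ 2 = 1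

theorem card_sq_le_two_of_cyclic {D : Type*} [Group D] [Finite D] [IsCyclic D] :
    Nat.card {d : D // d ^ 2 = 1} ≤ 2 := by
  classical
  haveI := Fintype.ofFinite D
  rw [Nat.card_eq_fintype_card, Fintype.card_subtype]
  exact IsCyclic.card_pow_eq_one_le two_pos

variable [Finite X]

/-- A normal subgroup of order at least four of a `2`-group contains a normal one of order four. -/
theorem exists_normal_card_four (hX : IsPGroup 2 X) (N : Subgroup X) [N.Normal] (hN : 4 ≤ Nat.card N) :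
    ∃ F : Subgroup X, F.Normal ∧ Nat.card F = 4 ∧ F ≤ N := by
  haveI := hX.isNilpotent
  haveI := Fact.mk Nat.prime_two
  have hNne : N ≠ ⊥ := fun e => by rw [e, card_bot] at hN; omega
  have hne := CfsgLib.Solvable.inf_center_ne_bot (N := N) hNne
  obtain ⟨j, hj⟩ := IsPGroup.iff_card.mp (hX.to_subgroup (N ⊓ center X))
  have hj0 : j ≠ 0 := fun e => hne (eq_bot_of_card_eq _ (by rw [hj, e, pow_zero]))
  obtain ⟨⟨z, hz⟩, hzo⟩ := exists_prime_orderOf_dvd_card' (G := ↥(N ⊓ center X)) 2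
    (hj ▸ dvd_pow_self 2 hj0)
  rw [Subgroup.orderOf_mk] at hzo
  obtain ⟨hzN, hzc⟩ := mem_inf.mp hz
  haveI : (zpowers z).Normal := ⟨fun a ha g => by
    rw [mem_center_iff.mp (zpowers_le.mpr hzc ha : a ∈ center X) g, mul_inv_cancel_right]; exact ha⟩
  set f := QuotientGroup.mk' (zpowers z)
  haveI : (N.map f).Normal := (inferInstance : N.Normal).map f (QuotientGroup.mk'_surjective _)
  haveI : Group.IsNilpotent (X ⧸ zpowers z) := (hX.to_quotient (zpowers z)).isNilpotent
  have hmapne : N.map f ≠ ⊥ := fun e => by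
    rw [Subgroup.map_eq_bot_iff, QuotientGroup.ker_mk'] at e
    have := card_le_of_le e
    rw [Nat.card_zpowers, hzo] at this
    omega
  have hne' := CfsgLib.Solvable.inf_center_ne_bot (N := N.map f) hmapne
  obtain ⟨i, hi⟩ := IsPGroup.iff_card.mp ((hX.to_quotient (zpowers z)).to_subgroup (N.map f ⊓ center _))
  have hi0 : i ≠ 0 := fun e => hne' (eq_bot_of_card_eq _ (by rw [hi, e, pow_zero]))
  obtain ⟨⟨q, hq⟩, hqo⟩ := exists_prime_orderOf_dvd_card' (G := ↥(N.map f ⊓ center (X ⧸ zpowers z))) 2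
    (hi ▸ dvd_pow_self 2 hi0)
  rw [Subgroup.orderOf_mk] at hqo
  obtain ⟨hqN, hqc⟩ := mem_inf.mp hq
  haveI : (zpowers q).Normal := ⟨fun a ha g => by
    rw [mem_center_iff.mp (zpowers_le.mpr hqc ha : a ∈ center (X ⧸ zpowers z)) g, mul_inv_cancel_right]
    exact ha⟩
  refine ⟨(zpowers q).comap f, inferInstance, ?_, ?_⟩
  · have h1 := relIndex_mul_relIndex ⊥ (zpowers z) ((zpowers q).comap f) bot_le
      (by conv_lhs => rw [← QuotientGroup.ker_mk' (zpowers z)]
          exact ker_le_comap _ _)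
    rw [relIndex_bot_left, relIndex_bot_left, Nat.card_zpowers, hzo] at h1
    rw [← h1]
    have h2 : (zpowers z).relIndex ((zpowers q).comap f) = 2 := by
      have e : (⊥ : Subgroup (X ⧸ zpowers z)).comap f = zpowers z :=
        (MonoidHom.comap_bot f).trans (QuotientGroup.ker_mk' _)
      have h3 := relIndex_comap (⊥ : Subgroup (X ⧸ zpowers z)) f ((zpowers q).comap f)
      rw [e, map_comap_eq_self_of_surjective (QuotientGroup.mk'_surjective _), relIndex_bot_left,
        Nat.card_zpowers, hqo] at h3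
      exact h3
    rw [h2]
  · refine (comap_mono (zpowers_le.mpr hqN)).trans ?_
    rw [comap_map_eq, QuotientGroup.ker_mk', sup_le_iff]
    exact ⟨le_rfl, zpowers_le.mpr hzN⟩

omit [Finite X] in
/-- An involution with commutators in a central subgroup of order two gives a four subgroup. -/
theorem fourFalse (h4 : ¬ HasFour X) {z t : X} (hz : z ∈ center X) (hz1 : z ≠ 1) (hz2 : z ^ 2 = 1)
    (ht2 : t ^ 2 = 1) (ht1 : t ≠ 1) (htz : t ≠ z)
    (ht : ∀ g : X, g * t * g⁻¹ = t ∨ g * t * g⁻¹ = t * z) : False := by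
  classical
  have hzt : Commute z t := (mem_center_iff.mp hz t).symm
  let E : Subgroup X :=
    { carrier := ({1, z, t, t * z} : Finset X)
      one_mem' := by simp
      mul_mem' := by
        have e1 : z * z = 1 := by rw [← sq]; exact hz2
        have e2 : t * t = 1 := by rw [← sq]; exact ht2
        have e3 : z * t = t * z := hzt.eq
        intro u w hu hw
        simp only [Finset.coe_insert, Finset.coe_singleton, Set.mem_insert_iff, Set.mem_singleton_iff] at hu hw ⊢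
        have e1' : ∀ c, z * (z * c) = c := fun c => by rw [← mul_assoc, e1, one_mul]
        have e2' : ∀ c, t * (t * c) = c := fun c => by rw [← mul_assoc, e2, one_mul]
        have e3' : ∀ c, z * (t * c) = t * (z * c) := fun c => by rw [← mul_assoc, e3, mul_assoc]
        rcases hu with h | h | h | h <;> rcases hw with h' | h' | h' | h' <;>
          simp [h, h', e1, e2, e3, mul_assoc, e1', e2', e3']
      inv_mem' := by
        intro u hu
        simp only [Finset.coe_insert, Finset.coe_singleton, Set.mem_insert_iff, Set.mem_singleton_iff] at hu ⊢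
        have hzi : z⁻¹ = z := inv_eq_of_mul_eq_one_right (by rw [← sq]; exact hz2)
        have hti : t⁻¹ = t := inv_eq_of_mul_eq_one_right (by rw [← sq]; exact ht2)
        rcases hu with h | h | h | h <;> rw [h]
        · simp
        · rw [hzi]; simp
        · rw [hti]; simp
        · rw [mul_inv_rev, hzi, hti, hzt.eq]; simp }
  refine h4 ⟨E, ⟨fun u hu g => ?_⟩, ?_, fun u hu => ?_⟩
  · change u ∈ (({1, z, t, t * z} : Finset X) : Set X) at hu
    show g * u * g⁻¹ ∈ (({1, z, t, t * z} : Finset X) : Set X)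
    have hgz : g * z * g⁻¹ = z := by rw [mem_center_iff.mp hz g, mul_inv_cancel_right]
    simp only [Finset.coe_insert, Finset.coe_singleton, Set.mem_insert_iff, Set.mem_singleton_iff] at hu ⊢
    rcases hu with h | h | h | h <;> rw [h]
    · simp
    · rw [hgz]; simp
    · rcases ht g with e | e <;> rw [e] <;> simp
    · rw [show g * (t * z) * g⁻¹ = g * t * g⁻¹ * (g * z * g⁻¹) by group, hgz]
      rcases ht g with e | e <;> rw [e]
      · simp
      · rw [mul_assoc, ← sq, hz2, mul_one]; simp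
  · rw [show Nat.card E = Nat.card (({1, z, t, t * z} : Finset X) : Set X) from rfl,
      Nat.card_coe_set_eq, Set.ncard_coe_finset]
    have htz1 : t * z ≠ 1 := fun e => htz (by
      rw [mul_eq_one_iff_eq_inv, inv_eq_of_mul_eq_one_right (by rw [← sq]; exact hz2)] at e; exact e)
    rw [Finset.card_insert_of_notMem (by simp [hz1.symm, ht1.symm, htz1.symm]),
      Finset.card_insert_of_notMem (by
        simp only [Finset.mem_insert, Finset.mem_singleton, not_or]
        exact ⟨htz.symm, fun e => ht1 (mul_eq_right.mp e.symm)⟩),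
      Finset.card_pair (fun e => hz1 (mul_eq_left.mp e.symm))]
  · change u ∈ (({1, z, t, t * z} : Finset X) : Set X) at hu
    simp only [Finset.coe_insert, Finset.coe_singleton, Set.mem_insert_iff, Set.mem_singleton_iff] at hu
    rcases hu with h | h | h | h <;> rw [h]
    · exact one_pow 2
    · exact hz2
    · exact ht2
    · rw [hzt.symm.mul_pow, ht2, hz2, mul_one]

/-- A unit modulo a power of two cancels. -/
theorem hucop' {k : ℕ} {u l : ℤ} (h : IsCoprime ((2 : ℤ) ^ (k - 1)) u) (hd : (2 : ℤ) ^ (k - 1) ∣ u * l) :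
    (2 : ℤ) ^ (k - 1) ∣ l := h.dvd_of_dvd_mul_left hd

/-- Without a normal four subgroup, normal subgroups of order four are cyclic and those
centralising one another are equal. -/
theorem eq_of_normal_four (hX : IsPGroup 2 X) (h4 : ¬ HasFour X) {A B : Subgroup X}
    [A.Normal] [B.Normal] (hA : Nat.card A = 4) (hB : Nat.card B = 4)
    (hAB : ∀ a ∈ A, ∀ b ∈ B, Commute a b) : A = B := by
  classical
  have key : ∀ {C : Subgroup X}, C.Normal → Nat.card C = 4 → ∃ c ∈ C, c ^ 2 ≠ 1 ∧ orderOf c = 4 := by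
    intro C hC hC4
    obtain ⟨c, hc, hc2⟩ : ∃ c ∈ C, c ^ 2 ≠ 1 := by
      by_contra hall; push Not at hall; exact h4 ⟨C, hC, hC4, hall⟩
    refine ⟨c, hc, hc2, ?_⟩
    obtain ⟨j, hj, hje⟩ := (Nat.dvd_prime_pow Nat.prime_two).mp
      (show orderOf c ∣ 2 ^ 2 by rw [show (2:ℕ) ^ 2 = 4 by norm_num, ← hC4]; exact orderOf_dvd_natCard C hc)
    interval_cases j
    · exact absurd (orderOf_dvd_iff_pow_eq_one.mp (hje ▸ one_dvd 2)) hc2
    · exact absurd (orderOf_dvd_iff_pow_eq_one.mp (hje ▸ dvd_rfl)) hc2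
    · exact hje
  obtain ⟨a, ha, ha2, hao⟩ := key (inferInstance : A.Normal) hA
  obtain ⟨b, hb, hb2, hbo⟩ := key (inferInstance : B.Normal) hB
  have hAeq : zpowers a = A := eq_of_le_of_card_ge (zpowers_le.mpr ha) (by rw [Nat.card_zpowers, hao, hA])
  have hBeq : zpowers b = B := eq_of_le_of_card_ge (zpowers_le.mpr hb) (by rw [Nat.card_zpowers, hbo, hB])
  -- conjugates of a generator
  have hconj : ∀ (c : X) (C : Subgroup X), C.Normal → zpowers c = C → orderOf c = 4 → ∀ g : X,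
      g * c * g⁻¹ = c ∨ g * c * g⁻¹ = c * c ^ 2 := by
    intro c C hC hceq hco g
    have h1 : g * c * g⁻¹ ∈ zpowers c := by
      rw [hceq]; exact hC.conj_mem _ (hceq ▸ mem_zpowers c) g
    obtain ⟨i, hi, e⟩ : ∃ i, i < 4 ∧ c ^ i = g * c * g⁻¹ := by
      obtain ⟨i, hi⟩ := (mem_powers_iff_mem_zpowers.mpr h1 : _ ∈ Submonoid.powers c)
      exact ⟨i % 4, Nat.mod_lt _ (by norm_num), by rw [← hco, pow_mod_orderOf]; exact hi⟩
    have hord : orderOf (c ^ i) = 4 := by rw [e]; exact (orderOf_injective (MulAut.conj g).toMonoidHom (MulAut.conj g).injective c).trans hco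
    interval_cases i
    · rw [pow_zero, orderOf_one] at hord; omega
    · exact Or.inl (by rw [← e, pow_one])
    · have : orderOf (c ^ 2) ∣ 2 := orderOf_dvd_of_pow_eq_one (by rw [← pow_mul, show 2 * 2 = 4 by rfl, ← hco, pow_orderOf_eq_one])
      rw [hord] at this; norm_num at this
    · exact Or.inr (by rw [← e, ← pow_succ'])
  have hsq : ∀ (c : X) (C : Subgroup X), C.Normal → zpowers c = C → orderOf c = 4 → c ^ 2 ∈ center X := by
    intro c C hC hceq hco
    refine mem_center_iff.mpr fun g => ?_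
    have h1 : g * c ^ 2 * g⁻¹ = c ^ 2 := by
      rw [← conj_pow]
      rcases hconj c C hC hceq hco g with e | e
      · rw [e]
      · rw [e, ← pow_succ', ← pow_mul, show (2 + 1) * 2 = 4 + 2 by rfl, pow_add, ← hco,
          pow_orderOf_eq_one, one_mul]
    exact mul_inv_eq_iff_eq_mul.mp h1
  have hza := hsq a A inferInstance hAeq hao
  have hzb := hsq b B inferInstance hBeq hbo
  have hab : Commute a b := hAB a ha b hb
  have ha4 : a ^ 4 = 1 := hao ▸ pow_orderOf_eq_one a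
  have hb4 : b ^ 4 = 1 := hbo ▸ pow_orderOf_eq_one b
  have haz1 : a ^ 2 ≠ 1 := ha2
  -- the two central involutions agree
  have hzz : a ^ 2 = b ^ 2 := by
    by_contra hne
    refine fourFalse h4 (z := a ^ 2) (t := b ^ 2) hza haz1 (by rw [← pow_mul]; exact ha4) (by rw [← pow_mul]; exact hb4)
      hb2 (fun e => hne e.symm) fun g => Or.inl ?_
    rw [mem_center_iff.mp hzb g, mul_inv_cancel_right]
  by_contra hne
  have hai : a⁻¹ = a ^ 3 := inv_eq_of_mul_eq_one_right (by rw [← pow_succ']; exact ha4)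
  refine fourFalse h4 (z := a ^ 2) (t := a⁻¹ * b) hza haz1 (by rw [← pow_mul]; exact ha4) ?_ ?_ ?_ fun g => ?_
  · rw [hab.inv_left.mul_pow, inv_pow, hzz, inv_mul_cancel]
  · intro e
    exact hne (hAeq ▸ hBeq ▸ by rw [inv_mul_eq_one.mp e])
  · intro e
    apply hne
    have : b = a ^ 3 := by rw [inv_mul_eq_iff_eq_mul.mp e, ← pow_succ']
    rw [← hAeq, ← hBeq, this, ← hai, zpowers_inv]
  · have e : g * (a⁻¹ * b) * g⁻¹ = (g * a * g⁻¹)⁻¹ * (g * b * g⁻¹) := by group
    have hcomm : Commute (a ^ 2) b := hab.pow_left 2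
    rw [e]
    rcases hconj a A inferInstance hAeq hao g with e1 | e1 <;>
      rcases hconj b B inferInstance hBeq hbo g with e2 | e2 <;> rw [e1, e2]
    · exact Or.inl rfl
    · exact Or.inr (by rw [← hzz, mul_assoc])
    · refine Or.inr ?_
      have h3 : (a * a ^ 2)⁻¹ = a := by rw [← pow_succ']; exact inv_eq_of_mul_eq_one_left (by rw [← pow_succ']; exact ha4)
      rw [h3, mul_assoc, ← hcomm.eq, ← mul_assoc, sq, ← mul_assoc, inv_mul_cancel, one_mul]
    · refine Or.inl ?_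
      have h3 : (a * a ^ 2)⁻¹ = a⁻¹ * a ^ 2 := by
        rw [mul_inv_rev, (Commute.inv_inv (Commute.pow_self a 2)).eq]
        congr 1
        exact inv_eq_of_mul_eq_one_right (by rw [← pow_add]; exact ha4)
      rw [h3, ← hzz, hcomm.symm.eq, mul_assoc, ← mul_assoc (a ^ 2), ← pow_add, ha4, one_mul]

theorem four_dvd_r {k : ℕ} (hk : 3 ≤ k) {r : ℤ} (h : (2 : ℤ) ^ k ∣ r ^ 2 - 1) (h4 : (4 : ℤ) ∣ r - 1) :
    (2 : ℤ) ^ (k - 1) ∣ r - 1 ∧ ∃ u : ℤ, 1 + r = 2 * u ∧ IsCoprime ((2 : ℤ) ^ (k - 1)) u := by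
  obtain ⟨j, hj⟩ := h4
  have hu : 1 + r = 2 * (1 + 2 * j) := by linarith
  have hodd : IsCoprime ((2 : ℤ) ^ (k - 1)) (1 + 2 * j) :=
    IsCoprime.pow_left (⟨-j, 1, by ring⟩ : IsCoprime (2 : ℤ) (1 + 2 * j))
  refine ⟨hodd.dvd_of_dvd_mul_left ?_, _, hu, hodd⟩
  have h1 : r ^ 2 - 1 = 2 * ((1 + 2 * j) * (r - 1)) := by
    rw [show r ^ 2 - 1 = (1 + r) * (r - 1) by ring, hu]; ring
  rw [h1, show k = k - 1 + 1 by omega, pow_succ'] at h
  exact Int.dvd_of_mul_dvd_mul_left two_ne_zero h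

/-- The structure of a `2`-group of order at least `16` without normal four subgroup. -/
theorem structure_of_no_four {n : ℕ} (hX : Nat.card X = 2 ^ n) (hn : 4 ≤ n) (h4 : ¬ HasFour X) :
    IsCyclic X ∨ ∃ D : Subgroup X, IsCyclic D ∧ D.Normal ∧ D.index = 2 ∧
      ∀ y : X, y ∉ D → Nat.card ↥(D ⊓ centralizer ({y} : Set X)) = 2 := by
  classical
  haveI := Fact.mk Nat.prime_two
  have hp : IsPGroup 2 X := IsPGroup.of_card hX
  haveI := hp.isNilpotent
  obtain ⟨D, ⟨hDn, hDc⟩, hDmax⟩ := Set.Finite.exists_maximal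
    (s := {D : Subgroup X | D.Normal ∧ IsMulCommutative D}) (Set.toFinite _)
    ⟨⊥, inferInstance, inferInstance⟩
  haveI := hDn
  haveI := hDc
  have hCD := CfsgLib.Solvable.centralizer_eq_of_maximal_abelian_normal (N := D)
    fun M hM hMc hle => le_antisymm (hDmax ⟨hM, hMc⟩ hle) hle
  have hcomm : ∀ a ∈ D, ∀ b ∈ D, Commute a b := fun a ha b hb =>
    congrArg Subtype.val (mul_comm' (⟨a, ha⟩ : D) ⟨b, hb⟩)
  let Ω : Subgroup X :=
    { carrier := {a | a ∈ D ∧ a ^ 2 = 1}
      one_mem' := ⟨one_mem D, one_pow 2⟩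
      mul_mem' := fun {a b} ha hb => ⟨mul_mem ha.1 hb.1, by rw [(hcomm a ha.1 b hb.1).mul_pow, ha.2, hb.2, one_mul]⟩
      inv_mem' := fun {a} ha => ⟨inv_mem ha.1, by rw [inv_pow, ha.2, inv_one]⟩ }
  haveI : Ω.Normal := ⟨fun a ha g => ⟨hDn.conj_mem a ha.1 g, by
    rw [conj_pow, ha.2, mul_one, mul_inv_cancel]⟩⟩
  have hΩ : Nat.card Ω ≤ 2 := by
    by_contra hgt
    obtain ⟨i, hi⟩ := IsPGroup.iff_card.mp (hp.to_subgroup Ω)
    have : 4 ≤ Nat.card Ω := by
      rcases i with _ | _ | i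
      · rw [hi] at hgt; omega
      · rw [hi] at hgt; omega
      · rw [hi, pow_succ, pow_succ]; have := Nat.one_le_two_pow (n := i); omega
    obtain ⟨F, hFn, hF4, hFle⟩ := exists_normal_card_four hp Ω this
    exact h4 ⟨F, hFn, hF4, fun e he => (hFle he).2⟩
  have hDcyc : IsCyclic D := by
    open scoped IsMulCommutative in
    refine CfsgLib.Coprime.isCyclic_of_forall_prime fun q hq => ?_
    by_cases hq2 : q = 2
    · subst hq2
      refine le_trans (Nat.card_le_card_of_injective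
        (fun a : (powMonoidHom 2 : D →* D).ker => (⟨((a : D) : X), (a : D).2, ?_⟩ : Ω)) ?_) hΩ
      · exact congrArg Subtype.val (MonoidHom.mem_ker.mp a.2)
      · exact fun a b e => Subtype.ext (Subtype.ext (congrArg (fun w : Ω => (w : X)) e))
    · refine le_trans (le_of_eq ?_) hq.one_le
      refine Nat.card_eq_one_iff_unique.mpr ⟨⟨fun a b => ?_⟩, inferInstance⟩
      have key : ∀ c : (powMonoidHom q : D →* D).ker, c = 1 := fun c => by
        obtain ⟨i, hi⟩ := hp ((c : D) : X)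
        refine Subtype.ext (Subtype.ext (orderOf_eq_one_iff.mp (Nat.eq_one_of_dvd_coprimes
          (((Nat.coprime_primes hq Nat.prime_two).mpr hq2).pow_right i) ?_ (orderOf_dvd_of_pow_eq_one hi))))
        exact orderOf_dvd_of_pow_eq_one (congrArg Subtype.val (MonoidHom.mem_ker.mp c.2))
      rw [key a, key b]
  by_cases htop : D = ⊤
  · left
    obtain ⟨g, hg⟩ := hDcyc.exists_generator
    exact ⟨(g : X), fun x => by
      obtain ⟨i, hi⟩ := mem_zpowers_iff.mp (hg ⟨x, htop ▸ mem_top x⟩)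
      exact mem_zpowers_iff.mpr ⟨i, by simpa using congrArg Subtype.val hi⟩⟩
  right
  obtain ⟨⟨d, hd⟩, hgen⟩ := hDcyc.exists_generator
  have hDd : ∀ a ∈ D, ∃ i : ℤ, d ^ i = a := fun a ha => by
    obtain ⟨i, hi⟩ := mem_zpowers_iff.mp (hgen ⟨a, ha⟩)
    exact ⟨i, by simpa using congrArg Subtype.val hi⟩
  have hDeq : zpowers d = D := le_antisymm (zpowers_le.mpr hd) fun a ha => by
    obtain ⟨i, rfl⟩ := hDd a ha; exact zpow_mem (mem_zpowers d) i
  obtain ⟨k, hk⟩ := IsPGroup.iff_orderOf.mp hp d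
  have hzero : ∀ i : ℤ, d ^ i = 1 ↔ (2 : ℤ) ^ k ∣ i := fun i => by
    rw [← orderOf_dvd_iff_zpow_eq_one, hk]; push_cast; rfl
  have hr : ∀ y : X, ∃ r : ℤ, ∀ i : ℤ, y * d ^ i * y⁻¹ = d ^ (r * i) := fun y => by
    obtain ⟨r, hr⟩ := hDd _ (hDn.conj_mem d hd y)
    exact ⟨r, fun i => by rw [zpow_mul, hr, conj_zpow]⟩
  choose R hR using hr
  have hRD : ∀ y : X, y ∈ D ↔ (2 : ℤ) ^ k ∣ R y - 1 := fun y => by
    rw [← hzero, zpow_sub, zpow_one, mul_inv_eq_one]
    have h1 := hR y 1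
    rw [zpow_one, mul_one] at h1
    rw [← h1, mul_inv_eq_iff_eq_mul]
    constructor
    · intro hy; exact hcomm y hy d hd
    · intro hy
      rw [← hCD, ← hDeq, mem_centralizer_iff]
      intro a ha
      obtain ⟨i, rfl⟩ := mem_zpowers_iff.mp ha
      exact (Commute.zpow_right hy i).eq.symm
  have hRmul : ∀ y y' : X, (2 : ℤ) ^ k ∣ R (y * y') - R y * R y' := fun y y' => by
    rw [← hzero, zpow_sub, mul_inv_eq_one]
    have h1 := hR (y * y') 1
    rw [mul_one] at h1
    rw [← h1, mul_inv_rev, show y * y' * d ^ (1 : ℤ) * (y'⁻¹ * y⁻¹) = y * (y' * d ^ (1 : ℤ) * y'⁻¹) * y⁻¹ by group,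
      hR y' 1, mul_one, hR y]
  have hk3 : 3 ≤ k := by
    by_contra hlt
    obtain ⟨y, hy⟩ : ∃ y, y ∉ D := by
      by_contra hall; push Not at hall; exact htop (eq_top_iff.mpr fun a _ => hall a)
    -- `X ⧸ D` acts faithfully on a group of order at most four
    have hk2 : k = 2 := by
      interval_cases k
      · exfalso; exact hy ((hRD y).mpr (one_dvd _))
      · exfalso
        refine hy ((hRD y).mpr ?_)
        by_contra hodd
        have h1 := hR y 1
        have h2 : d ^ R y = 1 := by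
          rw [hzero]
          simp only [pow_one] at hodd ⊢
          omega
        rw [mul_one, h2, zpow_one, conj_eq_one_iff] at h1
        rw [h1, orderOf_one] at hk
        omega
      · rfl
    subst hk2
    have hidx : ∀ a b : X, a ∉ D → b ∉ D → a * b ∈ D := by
      intro a b ha hb
      rw [hRD] at ha hb ⊢
      obtain ⟨q, hq⟩ := hRmul a b
      have hodd : ∀ c : X, ¬ (2 : ℤ) ∣ R c := fun c hc => by
        obtain ⟨j, hj⟩ := hc
        have h1 := hR c (2 : ℤ)
        rw [show d ^ (R c * 2) = 1 from (hzero _).mpr ⟨j, by rw [hj]; ring⟩, conj_eq_one_iff, hzero] at h1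
        norm_num at h1
      obtain ⟨u, hu⟩ : ∃ u, R a = 4 * u + 3 := ⟨(R a - 3) / 4, by have := hodd a; omega⟩
      obtain ⟨v, hv⟩ : ∃ v, R b = 4 * v + 3 := ⟨(R b - 3) / 4, by have := hodd b; omega⟩
      exact ⟨q + (4 * u * v + 3 * u + 3 * v + 2), by rw [← sub_add_sub_cancel _ (R a * R b), hq, hu, hv]; ring⟩
    have h2 : D.index = 2 := index_eq_two_iff.mpr ⟨y⁻¹, fun b => by
      by_cases hb : b ∈ D
      · refine Or.inr ⟨hb, fun h1 => hy ?_⟩
        have h3 := D.mul_mem (D.inv_mem hb) h1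
        rw [inv_mul_cancel_left] at h3
        simpa using h3
      · exact Or.inl ⟨hidx b y⁻¹ hb (fun h => hy (by simpa using h)), hb⟩⟩
    have := D.card_mul_index
    rw [h2, hX, ← hDeq, Nat.card_zpowers, hk] at this
    have : 2 ^ 4 ≤ 2 ^ n := Nat.pow_le_pow_right two_pos hn
    omega
  -- an element with square in `D` acts as `-1` modulo four
  have hkey : ∀ y : X, y ∉ D → y ^ 2 ∈ D → ¬ (4 : ℤ) ∣ R y - 1 := by
    intro y hy hy2 h41
    have hsq : (2 : ℤ) ^ k ∣ R y ^ 2 - 1 := by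
      have h1 := hRmul y y
      rw [← sq, (sq (R y)).symm] at h1
      have h2 := (hRD (y ^ 2)).mp hy2
      obtain ⟨q, hq⟩ := h1
      obtain ⟨q', hq'⟩ := h2
      exact ⟨q' - q, by rw [mul_sub, ← hq', ← hq]; ring⟩
    obtain ⟨hdv, u, hu, hucop⟩ := four_dvd_r hk3 hsq h41
    have hnd : ¬ (2 : ℤ) ^ k ∣ R y - 1 := fun h => hy ((hRD y).mpr h)
    obtain ⟨w, hw⟩ := hdv
    have hwodd : ¬ (2 : ℤ) ∣ w := fun ⟨j, hj⟩ => hnd ⟨j, by
      rw [hw, hj]
      conv_rhs => rw [show k = k - 1 + 1 by omega, pow_succ]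
      ring⟩
    obtain ⟨c, hc⟩ := hDd (y ^ 2) hy2
    have hc2 : (2 : ℤ) ∣ c := by
      have h1 : y * y ^ 2 * y⁻¹ = y ^ 2 := by group
      rw [← hc, hR y c] at h1
      have h2 : (2 : ℤ) ^ k ∣ R y * c - c := by rw [← hzero, zpow_sub, h1, mul_inv_cancel]
      rw [show R y * c - c = (R y - 1) * c by ring, hw, show k = k - 1 + 1 by omega, pow_succ, mul_assoc] at h2
      have h3 : (2 : ℤ) ∣ w * c := Int.dvd_of_mul_dvd_mul_left (pow_ne_zero _ two_ne_zero) h2
      exact (Int.prime_two.dvd_or_dvd h3).resolve_left hwodd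
    obtain ⟨c', rfl⟩ := hc2
    obtain ⟨α, β, hαβ⟩ := hucop
    set i : ℤ := -(c' * β)
    set t := d ^ i * y with ht
    set z := d ^ ((2 : ℤ) ^ (k - 1)) with hz
    have hkk : (2 : ℤ) ^ k = 2 * 2 ^ (k - 1) := by
      conv_lhs => rw [show k = k - 1 + 1 by omega, pow_succ']
    have ht2 : t ^ 2 = 1 := by
      rw [sq, ht, show d ^ i * y * (d ^ i * y) = d ^ i * (y * d ^ i * y⁻¹) * y ^ 2 by group, hR y i,
        ← hc, ← zpow_add, ← zpow_add, hzero, hkk,
        show i + R y * i + 2 * c' = i * (1 + R y) + 2 * c' by ring, hu]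
      refine ⟨c' * α, ?_⟩
      have : c' * 1 = c' := mul_one c'
      rw [← hαβ] at this
      linear_combination (-2 : ℤ) * this
    have hz1 : z ≠ 1 := fun e => by
      rw [hz, hzero, hkk] at e
      have := Int.le_of_dvd (by positivity) e
      have : (0 : ℤ) < 2 ^ (k - 1) := by positivity
      omega
    have hz2 : z ^ 2 = 1 := by
      rw [hz, ← zpow_natCast, ← zpow_mul, hzero, hkk]; exact ⟨1, by push_cast; ring⟩
    have hzc : z ∈ center X := mem_center_iff.mpr fun g => by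
      have h1 : d ^ (R g * (2 : ℤ) ^ (k - 1)) = z := by
        rw [hz, ← mul_inv_eq_one, ← zpow_neg, ← zpow_add, hzero,
          show R g * (2 : ℤ) ^ (k - 1) + -(2 : ℤ) ^ (k - 1) = (R g - 1) * 2 ^ (k - 1) by ring, hkk]
        refine mul_dvd_mul_right ?_ _
        by_contra hev
        have h1 := hR g ((2 : ℤ) ^ (k - 1))
        obtain ⟨j, hj⟩ : (2 : ℤ) ∣ R g := by omega
        rw [show d ^ (R g * (2 : ℤ) ^ (k - 1)) = 1 from (hzero _).mpr ⟨j, by rw [hj, hkk]; ring⟩,
          conj_eq_one_iff] at h1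
        exact hz1 h1
      have h2 := hR g ((2 : ℤ) ^ (k - 1))
      rw [h1, ← hz, mul_inv_eq_iff_eq_mul] at h2
      exact h2
    have hconj : ∀ g : X, g * t * g⁻¹ = t ∨ g * t * g⁻¹ = t * z := by
      intro g
      have hl : g * t * g⁻¹ * t⁻¹ ∈ D := by
        rw [hRD]
        obtain ⟨q1, hq1⟩ := hRmul (g * t * g⁻¹) t⁻¹
        obtain ⟨q2, hq2⟩ := hRmul (g * t) g⁻¹
        obtain ⟨q3, hq3⟩ := hRmul g t
        obtain ⟨q4, hq4⟩ := hRmul g g⁻¹
        obtain ⟨q5, hq5⟩ := hRmul t t⁻¹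
        rw [mul_inv_cancel] at hq4 hq5
        obtain ⟨q6, hq6⟩ := (hRD 1).mp (one_mem D)
        refine ⟨q1 + q2 * R t⁻¹ + q3 * R g⁻¹ * R t⁻¹ + q6 - q4 * (R t * R t⁻¹) - q5 + q6 * (R t * R t⁻¹), ?_⟩
        linear_combination hq1 + R t⁻¹ * hq2 + R g⁻¹ * R t⁻¹ * hq3 + hq6 - R t * R t⁻¹ * hq4 - hq5 +
          R t * R t⁻¹ * hq6
      obtain ⟨l, hl⟩ := hDd _ hl
      have e : g * t * g⁻¹ = d ^ l * t := by rw [hl]; group
      have e2 : (d ^ l * t) ^ 2 = 1 := by rw [← e, conj_pow, ht2, mul_one, mul_inv_cancel]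
      rw [sq, show d ^ l * t * (d ^ l * t) = d ^ l * (t * d ^ l * t⁻¹) * t ^ 2 by group, ht2, mul_one,
        show t * d ^ l * t⁻¹ = d ^ i * (y * d ^ l * y⁻¹) * (d ^ i)⁻¹ by rw [ht]; group, hR y l,
        show d ^ i * d ^ (R y * l) * (d ^ i)⁻¹ = d ^ (R y * l) by group, ← zpow_add, hzero,
        show l + R y * l = (1 + R y) * l by ring, hu, hkk, mul_assoc] at e2
      have e3 := hucop' ⟨α, β, hαβ⟩ (Int.dvd_of_mul_dvd_mul_left two_ne_zero e2)
      obtain ⟨j, rfl⟩ := e3
      rw [e, zpow_mul, ← hz, ← mem_center_iff.mp (zpow_mem hzc j) t]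
      rcases Int.even_or_odd j with ⟨j', rfl⟩ | ⟨j', rfl⟩
      · left
        rw [← two_mul, zpow_mul, zpow_ofNat, hz2, one_zpow, mul_one]
      · right
        rw [zpow_add, zpow_mul, zpow_ofNat, hz2, one_zpow, one_mul, zpow_one]
    have ht1 : t ≠ 1 := fun e => hy (by
      rw [show y = (d ^ i)⁻¹ * t by rw [ht]; group, e, mul_one]; exact inv_mem (zpow_mem hd i))
    have htz : t ≠ z := fun e => hy (by
      rw [show y = (d ^ i)⁻¹ * t by rw [ht]; group, e]
      exact mul_mem (inv_mem (zpow_mem hd i)) (zpow_mem hd _))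
    exact fourFalse h4 hzc hz1 hz2 ht2 ht1 htz hconj
  have hodd : ∀ y : X, ¬ (2 : ℤ) ∣ R y := fun y ⟨j, hj⟩ => by
    have h1 := hR y ((2 : ℤ) ^ (k - 1))
    have hkk : (2 : ℤ) ^ k = 2 * 2 ^ (k - 1) := by
      conv_lhs => rw [show k = k - 1 + 1 by omega, pow_succ']
    rw [show d ^ (R y * (2 : ℤ) ^ (k - 1)) = 1 from (hzero _).mpr ⟨j, by rw [hj, hkk]; ring⟩,
      conj_eq_one_iff, hzero, hkk] at h1
    have := Int.le_of_dvd (by positivity) h1
    have : (0 : ℤ) < 2 ^ (k - 1) := by positivity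
    omega
  have h4k : (4 : ℤ) ∣ 2 ^ k := ⟨2 ^ (k - 2), by
    conv_lhs => rw [show k = 2 + (k - 2) by omega, pow_add]
    norm_num⟩
  have hmul4 : ∀ a b : X, (4 : ℤ) ∣ R a - R b → (4 : ℤ) ∣ R (a * b) - 1 := by
    intro a b hab
    obtain ⟨q, hq⟩ := hRmul a b
    obtain ⟨m, hm⟩ := hab
    obtain ⟨v, hv⟩ : ∃ v, R b = 2 * v + 1 := ⟨R b / 2, by have := hodd b; omega⟩
    obtain ⟨w, hw⟩ := h4k
    exact ⟨w * q + m * (2 * v + 1) + v * v + v, by
      linear_combination hq + q * hw + R b * hm + (R b + 2 * v + 1 + 4 * m) * hv⟩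
  have hsqD : ∀ y : X, y ^ 2 ∈ D := by
    have key : ∀ (j : ℕ) (y : X), y ^ 2 ^ j ∈ D → y ^ 2 ∈ D := by
      intro j
      induction j with
      | zero => intro y hy; rw [pow_zero, pow_one] at hy; exact pow_mem hy 2
      | succ j ih =>
        intro y hy
        rw [pow_succ', pow_mul] at hy
        by_contra hy2
        have h2 := ih _ hy
        refine hkey (y ^ 2) hy2 h2 ?_
        rw [sq y]
        exact hmul4 y y (by simp)
    intro y
    obtain ⟨j, hj⟩ := hp y
    exact key j y (hj ▸ one_mem D)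
  obtain ⟨y, hy⟩ : ∃ y, y ∉ D := by
    by_contra hall; push Not at hall; exact htop (eq_top_iff.mpr fun a _ => hall a)
  have hidx : ∀ a b : X, a ∉ D → b ∉ D → a * b ∈ D := by
    intro a b ha hb
    by_contra hab
    refine hkey (a * b) hab (hsqD _) (hmul4 a b ?_)
    have := hodd a
    have := hodd b
    have := hkey a ha (hsqD a)
    have := hkey b hb (hsqD b)
    omega
  refine ⟨D, hDcyc, hDn, index_eq_two_iff.mpr ⟨y⁻¹, fun b => ?_⟩, ?_⟩
  · by_cases hb : b ∈ D
    · refine Or.inr ⟨hb, fun h1 => hy ?_⟩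
      have h3 := D.mul_mem (D.inv_mem hb) h1
      rw [inv_mul_cancel_left] at h3
      simpa using h3
    · exact Or.inl ⟨hidx b y⁻¹ hb (fun h => hy (by simpa using h)), hb⟩
  intro b hb
  obtain ⟨u, hu⟩ : ∃ u, R b = 4 * u + 3 := ⟨(R b - 3) / 4, by
    have := hodd b
    have := hkey b hb (hsqD b)
    omega⟩
  have hkk : (2 : ℤ) ^ k = 2 * 2 ^ (k - 1) := by
    conv_lhs => rw [show k = k - 1 + 1 by omega, pow_succ']
  have hcop : IsCoprime ((2 : ℤ) ^ (k - 1)) (2 * u + 1) := IsCoprime.pow_left (⟨-u, 1, by ring⟩ : IsCoprime (2 : ℤ) (2 * u + 1))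
  have hset : D ⊓ centralizer ({b} : Set X) = zpowers (d ^ ((2 : ℤ) ^ (k - 1))) := by
    refine le_antisymm (fun a ha => ?_) (zpowers_le.mpr (mem_inf.mpr ⟨zpow_mem hd _, ?_⟩))
    · obtain ⟨haD, hab⟩ := mem_inf.mp ha
      obtain ⟨i, rfl⟩ := hDd a haD
      have h1 : b * d ^ i * b⁻¹ = d ^ i := by
        rw [← mem_centralizer_singleton_iff.mp hab, mul_inv_cancel_right]
      rw [hR b i] at h1
      have h2 : (2 : ℤ) ^ k ∣ R b * i - i := by rw [← hzero, zpow_sub, h1, mul_inv_cancel]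
      rw [show R b * i - i = 2 * ((2 * u + 1) * i) by rw [hu]; ring, hkk] at h2
      obtain ⟨j, hj⟩ := hcop.dvd_of_dvd_mul_left (Int.dvd_of_mul_dvd_mul_left two_ne_zero h2)
      rw [hj, zpow_mul]
      exact zpow_mem (mem_zpowers _) j
    · rw [mem_centralizer_singleton_iff]
      have h1 := hR b ((2 : ℤ) ^ (k - 1))
      rw [show d ^ (R b * (2 : ℤ) ^ (k - 1)) = d ^ ((2 : ℤ) ^ (k - 1)) by
        rw [← mul_inv_eq_one, ← zpow_neg, ← zpow_add, hzero, hu, hkk]
        exact ⟨2 * u + 1, by ring⟩, mul_inv_eq_iff_eq_mul] at h1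
      exact h1.symm
  rw [hset, Nat.card_zpowers]
  refine orderOf_eq_prime ?_ fun e => ?_
  · rw [← zpow_natCast, ← zpow_mul, hzero, hkk]; exact ⟨1, by push_cast; ring⟩
  · rw [hzero, hkk] at e
    have := Int.le_of_dvd (by positivity) e
    have : (0 : ℤ) < 2 ^ (k - 1) := by positivity
    omega

end CfsgLib.SubgroupCounts69
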