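/- The number of solutions of `g ^ 2 = 1` in a 2-group with a normal four subgroup. -/
import Mathlib
import Cfsg.Agent.SubgroupCounts69.FourFree
import Cfsg.Agent.FgsSix.Frobenius

set_option autoImplicit false
set_option linter.unusedSectionVars false

namespace CfsgLib.SubgroupCounts69

open Subgroup

variable {X : Type*} [Group X] [Finite X]

/-- A set stable under multiplication by a subgroup is a union of cosets. -/
theorem card_dvd_ncard_of_mul_stable (E : Subgroup X) (S : Set X)
    (h : ∀ s ∈ S, ∀ e ∈ E, s * e ∈ S) : Nat.card E ∣ S.ncard := by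
  have hS : S = QuotientGroup.mk ⁻¹' ((QuotientGroup.mk : X → X ⧸ E) '' S) := by
    refine Set.Subset.antisymm (Set.subset_preimage_image _ _) ?_
    rintro x ⟨s, hs, hsx⟩
    have := h s hs _ (QuotientGroup.eq.mp hsx)
    rwa [mul_inv_cancel_left] at this
  rw [← Nat.card_coe_set_eq, hS, Nat.card_congr (QuotientGroup.preimageMkEquivSubgroupProdSet _ _),
    Nat.card_prod]
  exact dvd_mul_right _ _

/-- In a 2-group of order at least 16 with a normal four subgroup the number of `g` with
`g ^ 2 = 1` is a multiple of four. -/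
theorem four_dvd_ncard_sq_eq_one {n : ℕ} (hX : Nat.card X = 2 ^ n) (hn : 4 ≤ n) (h4 : HasFour X) :
    4 ∣ {g : X | g ^ 2 = 1}.ncard := by
  classical
  haveI := Fintype.ofFinite X
  haveI := Fact.mk Nat.prime_two
  have hp : IsPGroup 2 X := IsPGroup.of_card hX
  haveI := hp.isNilpotent
  obtain ⟨E, hEn, hE4, hE2⟩ := h4
  haveI := hEn
  set C := centralizer (E : Set X) with hC
  have hEinv : ∀ a ∈ E, a⁻¹ = a := fun a ha =>
    inv_eq_of_mul_eq_one_right (by rw [← sq]; exact hE2 a ha)
  have hEcomm : ∀ a ∈ E, ∀ b ∈ E, Commute a b := fun a ha b hb => by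
    have := hEinv _ (mul_mem ha hb)
    rw [mul_inv_rev, hEinv a ha, hEinv b hb] at this
    exact this.symm
  rw [← Set.ncard_inter_add_ncard_sdiff_eq_ncard {g : X | g ^ 2 = 1} (C : Set X) (Set.toFinite _)]
  refine Nat.dvd_add ?_ ?_
  · refine hE4 ▸ card_dvd_ncard_of_mul_stable E _ ?_
    rintro s ⟨hs2, hsC⟩ e he
    have hse : Commute s e := (mem_centralizer_iff.mp hsC e he).symm
    refine ⟨?_, mul_mem hsC (mem_centralizer_iff.mpr fun a ha => (hEcomm a ha e he).eq)⟩
    show (s * e) ^ 2 = 1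
    rw [hse.mul_pow, Set.mem_ofPred_eq.mp hs2, hE2 e he, one_mul]
  set T : Set X := {g : X | g ^ 2 = 1} \ (C : Set X) with hT
  have hTconj : ∀ t ∈ T, ∀ x : X, x * t * x⁻¹ ∈ T := by
    rintro t ⟨ht2, htC⟩ x
    refine ⟨?_, fun h => htC ?_⟩
    · show (x * t * x⁻¹) ^ 2 = 1
      rw [conj_pow, Set.mem_ofPred_eq.mp ht2, mul_one, mul_inv_cancel]
    · have := (inferInstance : C.Normal).conj_mem _ h x⁻¹
      rwa [inv_inv, show x⁻¹ * (x * t * x⁻¹) * x = t by group] at this
  by_cases hall : ∀ t ∈ T, 4 ∣ (centralizer ({t} : Set X)).index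
  · have := CfsgLib.FgsSix.dvd_sum_of_conj_invariant T.toFinset (fun _ => 1) 4
      (fun u hu g => Set.mem_toFinset.mpr (hTconj u (Set.mem_toFinset.mp hu) g)) (fun _ _ => rfl)
      (fun u hu => by rw [mul_one]; exact hall u (Set.mem_toFinset.mp hu))
    rwa [Finset.sum_const, smul_eq_mul, mul_one, ← Set.ncard_eq_toFinset_card'] at this
  push Not at hall
  obtain ⟨g, ⟨hg2, hgC⟩, hidx⟩ := hall
  replace hg2 : g ^ 2 = 1 := hg2
  set H := centralizer ({g} : Set X) with hH
  have hgg : g * g = 1 := by rw [← sq]; exact hg2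
  obtain ⟨e, he, heH⟩ : ∃ e ∈ E, e ∉ H := by
    by_contra hno
    push Not at hno
    exact hgC (mem_centralizer_iff.mpr fun a ha => mem_centralizer_singleton_iff.mp (hno a ha))
  have hH2 : H.index = 2 := by
    obtain ⟨j, -, hje⟩ := (Nat.dvd_prime_pow Nat.prime_two).mp (hX ▸ H.index_dvd_card)
    rcases j with _ | _ | j
    · exfalso; rw [pow_zero, index_eq_one] at hje; exact heH (hje ▸ mem_top e)
    · rw [hje, zero_add, pow_one]
    · exfalso; exact hidx (hje ▸ ⟨2 ^ j, by rw [pow_succ, pow_succ]; ring⟩)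
  have hee : e * e = 1 := by rw [← sq]; exact hE2 e he
  set z := g * e * g * e with hz
  have hconjE : g * e * g ∈ E := by
    have := hEn.conj_mem e he g
    rwa [inv_eq_of_mul_eq_one_right hgg] at this
  have hzE : z ∈ E := mul_mem hconjE he
  have hge : g * e * g = z * e := by rw [hz, mul_assoc _ e e, hee, mul_one]
  have hz1 : z ≠ 1 := fun h => heH (by
    rw [mem_centralizer_singleton_iff]
    rw [h, one_mul] at hge
    conv_lhs => rw [← hge]
    rw [mul_assoc _ g g, hgg, mul_one])
  have hzz : z * z = 1 := by rw [← sq]; exact hE2 z hzE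
  have hzH : z ∈ H := by
    rw [mem_centralizer_singleton_iff]
    have h1 : e * g * e * g = z := by
      conv_rhs => rw [← hEinv z hzE, hz]
      rw [mul_inv_rev, mul_inv_rev, mul_inv_rev, hEinv e he, inv_eq_of_mul_eq_one_right hgg]
      simp [mul_assoc]
    calc z * g = g * (e * g * e * g) := by rw [hz]; simp [mul_assoc]
      _ = g * z := by rw [h1]
  -- the four elements of `E`
  have hze : z ≠ e := fun h => heH (h ▸ hzH)
  have hne1 : e ≠ 1 := fun h => heH (h ▸ one_mem H)
  have hzemem : z * e ∈ E := mul_mem hzE he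
  have hEset : ∀ a ∈ E, a = 1 ∨ a = z ∨ a = e ∨ a = z * e := by
    intro a ha
    have hsub : ({1, z, e, z * e} : Finset X) ⊆ (E : Set X).toFinset := by
      intro u hu
      simp only [Finset.mem_insert, Finset.mem_singleton] at hu
      rw [Set.mem_toFinset, SetLike.mem_coe]
      rcases hu with h | h | h | h <;> rw [h]
      exacts [one_mem E, hzE, he, hzemem]
    have hcard : ({1, z, e, z * e} : Finset X).card = 4 := by
      have h1 : z * e ≠ 1 := fun h => hze (by rw [mul_eq_one_iff_eq_inv.mp h, hEinv e he])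
      rw [Finset.card_insert_of_notMem (by simp [hz1.symm, hne1.symm, h1.symm]),
        Finset.card_insert_of_notMem (by
          simp only [Finset.mem_insert, Finset.mem_singleton, not_or]
          exact ⟨hze, fun h => hne1 (mul_eq_left.mp h.symm)⟩),
        Finset.card_pair (fun h => hz1 (mul_eq_right.mp h.symm))]
    have heq := Finset.eq_of_subset_of_card_le hsub (by
      rw [hcard, ← Set.ncard_eq_toFinset_card', ← Nat.card_coe_set_eq]
      exact le_of_eq hE4)
    have : a ∈ ({1, z, e, z * e} : Finset X) := heq ▸ Set.mem_toFinset.mpr ha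
    simpa using this
  have hzc : z ∈ center X := by
    obtain ⟨w, hw, hw1⟩ := (Subgroup.ne_bot_iff_exists_ne_one).mp
      (CfsgLib.Solvable.inf_center_ne_bot (N := E) (fun h => by rw [h, card_bot] at hE4; omega)) |>
        fun ⟨⟨w, hw⟩, hne⟩ => (⟨w, hw, fun h => hne (Subtype.ext h)⟩ : ∃ w, w ∈ E ⊓ center X ∧ w ≠ 1)
    obtain ⟨hwE, hwc⟩ := mem_inf.mp hw
    have hwH : w ∈ H := mem_centralizer_singleton_iff.mpr (mem_center_iff.mp hwc g).symm
    rcases hEset w hwE with h | h | h | h
    · exact absurd h hw1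
    · exact h ▸ hwc
    · exact absurd (h ▸ hwH) heH
    · refine absurd ?_ heH
      have := H.mul_mem (H.inv_mem hzH) (h ▸ hwH)
      rwa [inv_mul_cancel_left] at this
  -- elements outside `C` act in the same way
  have hact : ∀ t : X, t ∉ C → t * e * t⁻¹ = z * e := by
    intro t ht
    rcases hEset _ (hEn.conj_mem e he t) with h | h | h | h
    · exact absurd (conj_eq_one_iff.mp h) hne1
    · refine absurd ?_ hze
      rw [mul_inv_eq_iff_eq_mul, ← mem_center_iff.mp hzc t] at h
      exact (mul_left_cancel h).symm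
    · refine absurd (mem_centralizer_iff.mpr fun a ha => ?_) ht
      have hte : t * e = e * t := by rw [mul_inv_eq_iff_eq_mul] at h; exact h
      rcases hEset a ha with r | r | r | r <;> rw [r]
      · simp
      · exact (mem_center_iff.mp hzc t).symm
      · exact hte.symm
      · rw [mul_assoc, ← hte, ← mul_assoc, ← mem_center_iff.mp hzc t, mul_assoc]
    · exact h
  have hgC2 : ∀ t : X, t ∉ C → t * g ∈ C := by
    intro t ht
    have h1 : (t * g) * e * (t * g)⁻¹ = e := by
      rw [show t * g * e * (t * g)⁻¹ = t * (g * e * g⁻¹) * t⁻¹ by group, hact g hgC,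
        show t * (z * e) * t⁻¹ = (t * z * t⁻¹) * (t * e * t⁻¹) by group, hact t ht,
        mem_center_iff.mp hzc t, mul_inv_cancel_right, ← mul_assoc, hzz, one_mul]
    have h2 : (t * g) * e = e * (t * g) := mul_inv_eq_iff_eq_mul.mp h1
    refine mem_centralizer_iff.mpr fun a ha => ?_
    rcases hEset a ha with r | r | r | r <;> rw [r]
    · simp
    · exact (mem_center_iff.mp hzc (t * g)).symm
    · exact h2.symm
    · rw [mul_assoc, ← h2, ← mul_assoc, ← mem_center_iff.mp hzc (t * g), mul_assoc]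
  have hCidx : C.index ≤ 2 := by
    refine (le_of_eq (index_eq_two_iff.mpr ⟨g, fun b => ?_⟩))
    by_cases hb : b ∈ C
    · refine Or.inr ⟨hb, fun h => hgC ?_⟩
      have := C.mul_mem (C.inv_mem hb) h
      rwa [inv_mul_cancel_left] at this
    · exact Or.inl ⟨hgC2 b hb, hb⟩
  set H0 := H ⊓ C with hH0
  -- the parametrisation of `T`
  let φ : X → X := fun h => if h ^ 2 = 1 then h * g else e * h * g
  have hcard : T.ncard = {h : X | h ∈ H0 ∧ h ^ 2 ∈ zpowers z}.ncard := by
    have hzp : ∀ u : X, u ∈ zpowers z ↔ u = 1 ∨ u = z := by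
      intro u
      refine ⟨fun hu => ?_, fun hu => ?_⟩
      · obtain ⟨i, rfl⟩ := mem_zpowers_iff.mp hu
        rcases Int.even_or_odd i with ⟨j, rfl⟩ | ⟨j, rfl⟩
        · left; rw [← two_mul, zpow_mul, zpow_ofNat, sq, hzz, one_zpow]
        · right; rw [zpow_add, zpow_mul, zpow_ofNat, sq, hzz, one_zpow, one_mul, zpow_one]
      · rcases hu with rfl | rfl
        · exact one_mem _
        · exact mem_zpowers _
    have hcomm : ∀ h ∈ H0, g * h = h * g ∧ e * h = h * e := fun h hh =>
      ⟨(mem_centralizer_singleton_iff.mp (mem_inf.mp hh).1).symm,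
        mem_centralizer_iff.mp (mem_inf.mp hh).2 e he⟩
    have hsq1 : ∀ h ∈ H0, (h * g) ^ 2 = h ^ 2 := fun h hh => by
      rw [(show Commute h g from ((hcomm h hh).1).symm).mul_pow, hg2, mul_one]
    have hsq2 : ∀ h ∈ H0, (e * h * g) ^ 2 = z * h ^ 2 := fun h hh => by
      calc (e * h * g) ^ 2 = e * (h * g * e) * h * g := by rw [sq]; simp only [mul_assoc]
        _ = e * (g * h * e) * h * g := by rw [(hcomm h hh).1]
        _ = e * (g * e) * (h * h * g) := by rw [mul_assoc g h e, ← (hcomm h hh).2]; simp only [mul_assoc]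
        _ = e * (g * e) * (g * (h * h)) := by
          rw [show g * (h * h) = h * h * g by
            rw [← mul_assoc, (hcomm h hh).1, mul_assoc, (hcomm h hh).1, ← mul_assoc]]
        _ = e * (g * e * g) * h ^ 2 := by rw [sq]; simp only [mul_assoc]
        _ = z * h ^ 2 := by
          rw [hge, ← mul_assoc e z e, (hEcomm e he z hzE).eq, mul_assoc z e e, hee, mul_one]
    have heC : e ∈ C := mem_centralizer_iff.mpr fun a ha => (hEcomm a ha e he).eq
    symm
    refine Set.ncard_congr (fun h _ => φ h) ?_ ?_ ?_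
    · rintro h ⟨hh, hh2⟩
      rcases (hzp _).mp hh2 with h1 | h1
      · simp only [φ, h1, if_true]
        exact ⟨by rw [Set.mem_ofPred_eq, hsq1 h hh, h1],
          fun h3 => hgC (by have := C.mul_mem (C.inv_mem (mem_inf.mp hh).2) h3; rwa [inv_mul_cancel_left] at this)⟩
      · simp only [φ, h1, hz1, if_false]
        exact ⟨by rw [Set.mem_ofPred_eq, hsq2 h hh, h1, hzz],
          fun h3 => hgC (by
            have := C.mul_mem (C.inv_mem (C.mul_mem heC (mem_inf.mp hh).2)) h3
            rwa [inv_mul_cancel_left] at this)⟩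
    · rintro h h' ⟨hh, -⟩ ⟨hh', -⟩ heq
      simp only [φ] at heq
      split_ifs at heq with c1 c2 c2
      · exact mul_right_cancel heq
      · refine absurd ?_ heH
        have h5 : h = e * h' := mul_right_cancel heq
        have := H.mul_mem (mem_inf.mp hh).1 (H.inv_mem (mem_inf.mp hh').1)
        rwa [h5, mul_inv_cancel_right] at this
      · refine absurd ?_ heH
        have h5 : e * h = h' := mul_right_cancel heq
        have := H.mul_mem (mem_inf.mp hh').1 (H.inv_mem (mem_inf.mp hh).1)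
        rwa [← h5, mul_inv_cancel_right] at this
      · exact mul_left_cancel (mul_right_cancel heq)
    · rintro t ⟨ht2, htC⟩
      replace ht2 : t ^ 2 = 1 := ht2
      have hcC := hgC2 t htC
      have htc : t = t * g * g := by rw [mul_assoc, hgg, mul_one]
      by_cases hcH : t * g ∈ H
      · have hc2 : (t * g) ^ 2 = 1 := by
          rw [← hsq1 _ (mem_inf.mpr ⟨hcH, hcC⟩), ← htc, ht2]
        exact ⟨t * g, ⟨mem_inf.mpr ⟨hcH, hcC⟩, by rw [hc2]; exact one_mem _⟩,
          by simp only [φ, hc2, if_true]; exact htc.symm⟩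
      · have hh : e * (t * g) ∈ H0 := mem_inf.mpr
          ⟨(mul_mem_iff_of_index_two hH2).mpr (iff_of_false heH hcH), mul_mem heC hcC⟩
        have htc' : t = e * (e * (t * g)) * g := by
          rw [← mul_assoc e e, hee, one_mul, ← htc]
        have hc2 : (e * (t * g)) ^ 2 = z := by
          have h6 := hsq2 _ hh
          rw [← htc', ht2] at h6
          rw [inv_eq_of_mul_eq_one_right h6.symm |>.symm, hEinv z hzE]
        exact ⟨e * (t * g), ⟨hh, by rw [hc2]; exact mem_zpowers z⟩,
          by simp only [φ, hc2, hz1, if_false]; exact htc'.symm⟩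
  rw [hcard]
  -- squares into `⟨z⟩`
  have hzH0 : z ∈ H0 := mem_inf.mpr ⟨hzH, mem_centralizer_iff.mpr fun a ha => (hEcomm a ha z hzE).eq⟩
  let w : H0 := ⟨z, hzH0⟩
  haveI : (zpowers w).Normal := ⟨fun a ha x => by
    obtain ⟨i, rfl⟩ := mem_zpowers_iff.mp ha
    rw [show x * w ^ i * x⁻¹ = w ^ i from mul_inv_eq_iff_eq_mul.mpr (Subtype.ext (by
      push_cast
      exact (mem_center_iff.mp (zpow_mem hzc i) (x : X))))]
    exact zpow_mem (mem_zpowers w) i⟩
  have hwo : Nat.card (zpowers w) = 2 := by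
    rw [Nat.card_zpowers, ← orderOf_coe]
    exact orderOf_eq_prime (by rw [sq]; exact hzz) hz1
  have hset : {h : X | h ∈ H0 ∧ h ^ 2 ∈ zpowers z} =
      (fun h : H0 => (h : X)) '' (QuotientGroup.mk ⁻¹' {q : H0 ⧸ zpowers w | q ^ 2 = 1}) := by
    ext h
    constructor
    · rintro ⟨hh, hh2⟩
      refine ⟨⟨h, hh⟩, ?_, rfl⟩
      show ((⟨h, hh⟩ : H0) : H0 ⧸ zpowers w) ^ 2 = 1
      rw [← QuotientGroup.mk_pow, QuotientGroup.eq_one_iff]
      obtain ⟨i, hi⟩ := mem_zpowers_iff.mp hh2
      exact mem_zpowers_iff.mpr ⟨i, Subtype.ext (by simpa using hi)⟩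
    · rintro ⟨⟨a, ha⟩, ha2, rfl⟩
      replace ha2 : ((⟨a, ha⟩ : H0) : H0 ⧸ zpowers w) ^ 2 = 1 := ha2
      rw [← QuotientGroup.mk_pow, QuotientGroup.eq_one_iff] at ha2
      obtain ⟨i, hi⟩ := mem_zpowers_iff.mp ha2
      exact ⟨ha, mem_zpowers_iff.mpr ⟨i, by simpa using congrArg Subtype.val hi⟩⟩
  rw [hset, Set.ncard_image_of_injective _ Subtype.val_injective, ← Nat.card_coe_set_eq,
    Nat.card_congr (QuotientGroup.preimageMkEquivSubgroupProdSet _ _), Nat.card_prod, hwo]
  refine (mul_dvd_mul_left 2 ?_ : 2 * 2 ∣ _)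
  show 2 ∣ Nat.card {q : H0 ⧸ zpowers w // q ^ 2 = 1}
  refine CfsgLib.FgsSix.dvd_card_pow_eq_one 2 ?_
  have hidx0 : H0.index ≤ 4 := (index_inf_le (H := H) (K := C)).trans (by rw [hH2]; omega)
  have hH0c : 4 ≤ Nat.card H0 := by
    have h7 := H0.card_mul_index
    rw [hX] at h7
    have : 2 ^ 4 ≤ 2 ^ n := Nat.pow_le_pow_right two_pos hn
    by_contra hlt
    have : Nat.card H0 * H0.index ≤ 3 * 4 := Nat.mul_le_mul (by omega) hidx0
    omega
  have h8 := card_eq_card_quotient_mul_card_subgroup (zpowers w)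
  rw [hwo] at h8
  obtain ⟨j, hj⟩ := IsPGroup.iff_card.mp ((hp.to_subgroup H0).to_quotient (zpowers w))
  rw [hj]
  refine dvd_pow_self 2 fun hj0 => ?_
  rw [hj, hj0] at h8
  omega

end CfsgLib.SubgroupCounts69
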