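/- Subgroup counts modulo four in 2-groups with a normal four subgroup. -/
import Mathlib
import Cfsg.Agent.SubgroupCounts69.Involutions
import Cfsg.Agent.SolvCrit.Kulakoff

set_option autoImplicit false
set_option linter.unusedSectionVars false
set_option linter.style.haveILetI false

namespace CfsgLib.SubgroupCounts69

open Subgroup CfsgLib.SolvCrit.Kulakoff
open scoped Classical

attribute [local instance] Fintype.ofFinite

/-- Without normal four subgroup, the number of subgroups of order `2 ^ a` is `1` mod 4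
for `2 ≤ a ≤ n - 2`. -/
theorem card_subs_top_no_four {X : Type*} [Group X] [Finite X] [Fact (Nat.Prime 2)] {n a : ℕ}
    (hX : Nat.card X = 2 ^ n) (hn : 4 ≤ n) (h4 : ¬ HasFour X) (ha : 2 ≤ a) (han : a + 2 ≤ n) :
    (subs 2 a (⊤ : Subgroup X)).card % 4 = 1 := by
  rcases structure_of_no_four hX hn h4 with hc | ⟨D, hDc, hDn, hD2, hDy⟩
  · haveI := hc
    rw [card_subs_cyclic (K := (⊤ : Subgroup X)) (isCyclic_of_surjective Subgroup.topEquiv.symm.toMonoidHom
      Subgroup.topEquiv.symm.surjective) (by rw [card_top, hX]; exact pow_dvd_pow 2 (by omega))]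
  haveI := hDc
  haveI := hDn
  have hDcard : Nat.card D = 2 ^ (n - 1) := by
    have h := D.card_mul_index
    rw [hD2, hX, show n = n - 1 + 1 by omega, pow_succ] at h
    exact Nat.eq_of_mul_eq_mul_right two_pos h
  have hD1 : ∀ b, b ≤ n - 1 → (subs 2 b D).card = 1 := fun b hb =>
    card_subs_cyclic hDc (hDcard ▸ pow_dvd_pow 2 hb)
  obtain ⟨D1, hD1eq⟩ := Finset.card_eq_one.mp (hD1 (a - 1) (by omega))
  obtain ⟨hD1le, hD1c⟩ := mem_subs.mp (hD1eq ▸ Finset.mem_singleton_self D1)
  have huniq : ∀ L ≤ D, Nat.card L = 2 ^ (a - 1) → L = D1 := fun L hL hLc =>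
    Finset.mem_singleton.mp (hD1eq ▸ mem_subs.mpr ⟨hL, hLc⟩)
  -- squares outside `D` lie in `D1`
  have hsq : ∀ y, y ∉ D → y ^ 2 ∈ D1 := by
    intro y hy
    obtain ⟨j, hj⟩ : 2 ∣ 2 ^ (a - 1) := dvd_pow_self 2 (by omega)
    obtain ⟨L, hL⟩ := Sylow.exists_subgroup_card_pow_prime (G := D1) 2 (n := 1)
      (by rw [hD1c, pow_one]; exact ⟨j, hj⟩)
    have h1 : L.map D1.subtype = D ⊓ centralizer ({y} : Set X) := by
      obtain ⟨u, hu⟩ := Finset.card_eq_one.mp (hD1 1 (by omega))
      have e1 : L.map D1.subtype ∈ subs 2 1 D := mem_subs.mpr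
        ⟨(map_subtype_le _).trans hD1le, by rw [card_map_of_injective D1.subtype_injective, hL]⟩
      have e2 : D ⊓ centralizer ({y} : Set X) ∈ subs 2 1 D := mem_subs.mpr
        ⟨inf_le_left, by rw [hDy y hy, pow_one]⟩
      rw [hu, Finset.mem_singleton] at e1 e2
      rw [e1, e2]
    have h2 : y ^ 2 ∈ D ⊓ centralizer ({y} : Set X) := mem_inf.mpr
      ⟨sq_mem_of_index_two hD2 y, mem_centralizer_singleton_iff.mpr (by rw [← pow_succ, ← pow_succ'])⟩
    exact map_subtype_le L (h1 ▸ h2)
  haveI hD1n : D1.Normal := ⟨fun x hx g => by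
    have hle : D1.map (MulAut.conj g).toMonoidHom ≤ D := by
      rintro _ ⟨u, hu, rfl⟩
      exact hDn.conj_mem u (hD1le hu) g
    have := huniq _ hle (by rw [card_map_of_injective (f := (MulAut.conj g).toMonoidHom)
      (MulAut.conj g).injective, hD1c])
    exact this ▸ ⟨x, hx, rfl⟩⟩
  set F := (subs 2 a (⊤ : Subgroup X)).filter fun H => ¬ H ≤ D with hF
  -- each element outside `D` lies in exactly one member
  have hmem : ∀ y, y ∉ D → D1 ⊔ zpowers y ∈ F := by
    intro y hy
    refine Finset.mem_filter.mpr ⟨mem_subs.mpr ⟨le_top, ?_⟩,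
      fun h => hy (h (mem_sup_right (mem_zpowers y)))⟩
    rw [card_sup_zpowers (p := 2) (by rw [normalizer_eq_top]; exact mem_top y) (hsq y hy)
      (fun h => hy (hD1le h)), hD1c, ← pow_succ]
    congr 1; omega
  have hfib : ∀ H ∈ F, Nat.card ↥(H ⊓ D) = 2 ^ (a - 1) ∧
      ∀ y ∈ H, y ∉ D → D1 ⊔ zpowers y = H := by
    intro H hH
    obtain ⟨hH1, hHD⟩ := Finset.mem_filter.mp hH
    obtain ⟨-, hHc⟩ := mem_subs.mp hH1
    have h1 : Nat.card ↥(H ⊓ D) = 2 ^ (a - 1) := by
      have h2 : D.relIndex H = 2 := by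
        have hd := relIndex_dvd_index_of_normal (H := D) H
        rw [hD2] at hd
        rcases (Nat.dvd_prime Nat.prime_two).mp hd with h | h
        · exact absurd (relIndex_eq_one.mp h) hHD
        · exact h
      have h3 := (D.subgroupOf H).card_mul_index
      rw [← relIndex, h2, hHc, show a = a - 1 + 1 by omega, pow_succ, ← inf_subgroupOf_left,
        Nat.card_congr (subgroupOfEquivOfLe inf_le_left).toEquiv] at h3
      exact Nat.eq_of_mul_eq_mul_right two_pos h3
    refine ⟨h1, fun y hy hyD => eq_of_le_of_card_ge (sup_le ?_ (zpowers_le.mpr hy)) ?_⟩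
    · rw [← huniq _ inf_le_right h1]; exact inf_le_left
    · obtain ⟨-, hc⟩ := mem_subs.mp (Finset.mem_filter.mp (hmem y hyD)).1
      rw [hc, hHc]
  have hcount : F.card * 2 ^ (a - 1) = 2 ^ (n - 1) := by
    have h1 : ((⊤ : Subgroup X) : Set X).toFinset.filter (fun y => y ∉ D) =
        F.biUnion fun H => (H : Set X).toFinset.filter fun y => y ∉ D := by
      ext y
      simp only [Finset.mem_filter, Set.mem_toFinset, SetLike.mem_coe, mem_top, true_and,
        Finset.mem_biUnion]
      refine ⟨fun hy => ⟨_, hmem y hy, mem_sup_right (mem_zpowers y), hy⟩, ?_⟩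
      rintro ⟨H, -, -, hy⟩
      exact hy
    have hcardfilter : ∀ H : Subgroup X, ((H : Set X).toFinset.filter fun y => y ∉ D).card =
        Nat.card H - Nat.card ↥(H ⊓ D) := by
      intro H
      have e : ((H : Set X).toFinset.filter fun y => y ∉ D) =
          ((H : Set X) \ ((H ⊓ D : Subgroup X) : Set X)).toFinset := by
        ext y; simp +contextual
      rw [e, ← Set.ncard_eq_toFinset_card', Set.ncard_sdiff (show ((H ⊓ D : Subgroup X) : Set X) ⊆ H from inf_le_left),
        ← Nat.card_coe_set_eq, ← Nat.card_coe_set_eq]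
      rfl
    have h2 := congrArg Finset.card h1
    rw [hcardfilter, Finset.card_biUnion, top_inf_eq, card_top, hX, hDcard] at h2
    · rw [Finset.sum_congr rfl (g := fun _ => 2 ^ (a - 1)), Finset.sum_const, smul_eq_mul] at h2
      · rw [← h2]
        have : 2 ^ n = 2 ^ (n - 1) + 2 ^ (n - 1) := by rw [← two_mul, ← pow_succ']; congr 1; omega
        omega
      · intro H hH
        rw [hcardfilter, (hfib H hH).1, (mem_subs.mp (Finset.mem_filter.mp hH).1).2,
          show a = a - 1 + 1 by omega, pow_succ, Nat.add_sub_cancel]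
        omega
    · intro H hH H' hH' hne
      refine Finset.disjoint_left.mpr fun y hy hy' => hne ?_
      simp only [Finset.mem_filter, Set.mem_toFinset, SetLike.mem_coe] at hy hy'
      rw [← (hfib H hH).2 y hy.1 hy.2, (hfib H' hH').2 y hy'.1 hy'.2]
  have hFcard : F.card = 2 ^ (n - a) := by
    refine Nat.eq_of_mul_eq_mul_right (Nat.two_pow_pos (a - 1)) (hcount.trans ?_)
    rw [← pow_add]; congr 1; omega
  have hin : (subs 2 a (⊤ : Subgroup X)).filter (fun H => H ≤ D) = subs 2 a D :=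
    subs_filter_le le_top
  rw [← Finset.card_filter_add_card_filter_not (s := subs 2 a (⊤ : Subgroup X)) (fun H => H ≤ D), hin,
    hD1 a (by omega), ← hF, hFcard, show n - a = 2 + (n - a - 2) by omega, pow_add]
  omega

variable {G : Type*} [Group G] [Finite G] [Fact (Nat.Prime 2)]

theorem card_subs_top {p a : ℕ} [Fact p.Prime] (K : Subgroup G) :
    (subs p a (⊤ : Subgroup K)).card = (subs p a K).card := by
  refine Finset.card_bij (fun H _ => H.map K.subtype) ?_ ?_ ?_
  · intro H hH
    exact mem_subs.mpr ⟨map_subtype_le _, by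
      rw [card_map_of_injective K.subtype_injective, (mem_subs.mp hH).2]⟩
  · intro H _ H' _ h
    exact map_injective K.subtype_injective h
  · intro L hL
    obtain ⟨hle, hc⟩ := mem_subs.mp hL
    exact ⟨L.subgroupOf K, mem_subs.mpr ⟨le_top, by
      rw [Nat.card_congr (subgroupOfEquivOfLe hle).toEquiv, hc]⟩, map_subgroupOf_eq_of_le hle⟩

/-- Subgroups of order two correspond to involutions. -/
theorem card_subs_one (K : Subgroup G) :
    (subs 2 1 K).card + 1 = {g : G | g ∈ K ∧ g ^ 2 = 1}.ncard := by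
  have h1 : (1 : G) ∈ {g : G | g ∈ K ∧ g ^ 2 = 1} := ⟨one_mem K, one_pow 2⟩
  rw [← Set.ncard_sdiff_singleton_add_one h1 (Set.toFinite _)]
  congr 1
  rw [Set.ncard_eq_toFinset_card']
  symm
  have hord : ∀ g : G, g ^ 2 = 1 → g ≠ 1 → orderOf g = 2 := fun g h h' => orderOf_eq_prime h h'
  refine Finset.card_bij (fun g _ => zpowers g) ?_ ?_ ?_
  · intro g hg
    simp only [Set.mem_toFinset, Set.mem_sdiff, Set.mem_singleton_iff, Set.mem_ofPred_eq] at hg
    exact mem_subs.mpr ⟨zpowers_le.mpr hg.1.1, by rw [Nat.card_zpowers, hord g hg.1.2 hg.2, pow_one]⟩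
  · intro g hg g' hg' h
    simp only [Set.mem_toFinset, Set.mem_sdiff, Set.mem_singleton_iff, Set.mem_ofPred_eq] at hg hg'
    obtain ⟨i, hi⟩ := mem_zpowers_iff.mp (show g' ∈ zpowers g from h ▸ mem_zpowers g')
    have hz : g ^ (2 : ℤ) = 1 := by rw [zpow_ofNat]; exact hg.1.2
    rcases Int.even_or_odd i with ⟨j, rfl⟩ | ⟨j, rfl⟩
    · rw [← two_mul, zpow_mul, hz, one_zpow] at hi
      exact absurd hi.symm hg'.2
    · rw [zpow_add, zpow_mul, hz, one_zpow, one_mul, zpow_one] at hi
      exact hi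
  · intro L hL
    obtain ⟨hle, hc⟩ := mem_subs.mp hL
    rw [pow_one] at hc
    haveI : Nontrivial L := Finite.one_lt_card_iff_nontrivial.mp (by rw [hc]; exact one_lt_two)
    obtain ⟨⟨g, hg⟩, hg1⟩ := exists_ne (1 : L)
    have hg1' : g ≠ 1 := fun h => hg1 (Subtype.ext h)
    have hg2 : g ^ 2 = 1 := by
      have := congrArg Subtype.val (pow_card_eq_one' (x := (⟨g, hg⟩ : L)))
      rwa [hc] at this
    refine ⟨g, ?_, eq_of_le_of_card_ge (zpowers_le.mpr hg) (by rw [hc, Nat.card_zpowers, hord g hg2 hg1'])⟩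
    simp only [Set.mem_toFinset, Set.mem_sdiff, Set.mem_singleton_iff, Set.mem_ofPred_eq]
    exact ⟨⟨hle hg, hg2⟩, hg1'⟩

theorem card_subs_one_mod_four {K : Subgroup G} (h : 4 ∣ {g : G | g ∈ K ∧ g ^ 2 = 1}.ncard) :
    (subs 2 1 K).card % 4 = 3 := by
  rw [← card_subs_one K] at h
  omega

theorem hasFour_iff (K : Subgroup G) :
    HasFour K ↔ ∃ E : Subgroup G, E ≤ K ∧ (∀ k ∈ K, ∀ e ∈ E, k * e * k⁻¹ ∈ E) ∧
      Nat.card E = 4 ∧ ∀ e ∈ E, e ^ 2 = 1 := by
  constructor
  · rintro ⟨E, hn, hc, h2⟩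
    refine ⟨E.map K.subtype, map_subtype_le _, ?_,
      by rw [card_map_of_injective K.subtype_injective, hc], ?_⟩
    · rintro k hk _ ⟨e, he, rfl⟩
      exact ⟨⟨k, hk⟩ * e * ⟨k, hk⟩⁻¹, hn.conj_mem e he _, by simp⟩
    · rintro _ ⟨e, he, rfl⟩
      rw [← map_pow, h2 e he, map_one]
  · rintro ⟨E, hle, hn, hc, h2⟩
    exact ⟨E.subgroupOf K, ⟨fun e he k => hn k k.2 e he⟩,
      by rw [Nat.card_congr (subgroupOfEquivOfLe hle).toEquiv, hc],
      fun e he => Subtype.ext (by simpa using h2 e he)⟩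

theorem conj_mem_max {K M : Subgroup G} (hK : IsPGroup 2 K) (hM : M ∈ maxs 2 K) {k m : G}
    (hk : k ∈ K) (hm : m ∈ M) : k * m * k⁻¹ ∈ M :=
  (mem_normalizer_iff.mp (le_normalizer_max hK hM hk) m).mp hm

theorem mul_mem_max {K M : Subgroup G} (hK : IsPGroup 2 K) (hM : M ∈ maxs 2 K) {x y : G}
    (hx : x ∈ K) (hxM : x ∉ M) (hy : y ∈ K) (hyM : y ∉ M) : x * y ∈ M := by
  obtain ⟨hle, hc⟩ := mem_maxs.mp hM
  have hidx : (M.subgroupOf K).index = 2 := by
    have h := (M.subgroupOf K).card_mul_index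
    rw [Nat.card_congr (subgroupOfEquivOfLe hle).toEquiv, ← hc] at h
    exact Nat.eq_of_mul_eq_mul_left Nat.card_pos h
  exact (mul_mem_iff_of_index_two hidx (a := (⟨x, hx⟩ : K)) (b := ⟨y, hy⟩)).mpr
    (iff_of_false hxM hyM)

theorem not_le_of_cyclic {E M : Subgroup G} [IsCyclic M] (hEc : Nat.card E = 4)
    (hE2 : ∀ e ∈ E, e ^ 2 = 1) : ¬ E ≤ M := fun h => by
  have h1 := card_sq_le_two_of_cyclic (D := M)
  have h2 : Nat.card E ≤ Nat.card {d : M // d ^ 2 = 1} :=
    Nat.card_le_card_of_injective (fun e : E => ⟨⟨e, h e.2⟩, Subtype.ext (by simpa using hE2 e e.2)⟩)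
      fun a b e => Subtype.ext (congrArg (fun d : {d : M // d ^ 2 = 1} => ((d : M) : G)) e)
  omega

section

variable {K E : Subgroup G} {n : ℕ} (hn : Nat.card K = 2 ^ n) (hEK : E ≤ K)
  (hEn : ∀ k ∈ K, ∀ e ∈ E, k * e * k⁻¹ ∈ E) (hEc : Nat.card E = 4) (hE2 : ∀ e ∈ E, e ^ 2 = 1)

include hn in
theorem card_max {M : Subgroup G} (hn1 : 1 ≤ n) (hM : M ∈ maxs 2 K) : Nat.card M = 2 ^ (n - 1) := by
  refine Nat.eq_of_mul_eq_mul_right two_pos ((mem_maxs.mp hM).2.trans ?_)
  rw [hn, ← pow_succ]; congr 1; omega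

include hn hEK hEc in
/-- The maximal subgroups avoiding `E` are even in number. -/
theorem two_dvd_card_avoid (hn4 : 3 ≤ n) : 2 ∣ ((maxs 2 K).filter fun M => ¬ E ≤ M).card := by
  have hK : IsPGroup 2 K := IsPGroup.of_card hn
  have hlt : E < K := lt_of_le_of_ne hEK fun h => by
    have : (4 : ℕ) = 2 ^ n := by rw [← hEc, h, hn]
    have := Nat.pow_le_pow_right (n := 2) two_pos hn4
    omega
  have hbot : (⊥ : Subgroup G) < K := lt_of_le_of_lt bot_le hlt
  have h1 := (card_maxs_congr hK hlt).1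
  have h2 := (card_maxs_congr hK hbot).1
  rw [Finset.filter_true_of_mem fun M _ => bot_le] at h2
  have h3 := Finset.card_filter_add_card_filter_not (s := maxs 2 K) (fun M => E ≤ M)
  have h4 := congrArg (Nat.cast : ℕ → ZMod 2) h3
  push_cast at h4
  rw [h1, h2, add_eq_left] at h4
  exact (CharP.cast_eq_zero_iff (ZMod 2) 2 _).mp h4

include hn hEK hEn hEc hE2 in
/-- The cyclic maximal subgroups are even in number. -/
theorem two_dvd_card_cyclic_maxs (hn4 : 4 ≤ n) :
    2 ∣ ((maxs 2 K).filter fun M : Subgroup G => IsCyclic M).card := by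
  have hK : IsPGroup 2 K := IsPGroup.of_card hn
  set Av := (maxs 2 K).filter fun M => ¬ E ≤ M with hAv
  have hsub : ((maxs 2 K).filter fun M : Subgroup G => IsCyclic M) ⊆ Av := by
    intro M hM
    obtain ⟨hM1, hM2⟩ := Finset.mem_filter.mp hM
    exact Finset.mem_filter.mpr ⟨hM1, not_le_of_cyclic hEc hE2⟩
  rcases ((maxs 2 K).filter fun M : Subgroup G => IsCyclic M).eq_empty_or_nonempty with h0 | ⟨M, hM⟩
  · rw [h0, Finset.card_empty]; exact dvd_zero 2
  have heq : ((maxs 2 K).filter fun M : Subgroup G => IsCyclic M) = Av := by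
    refine Finset.Subset.antisymm hsub fun M' hM' => ?_
    obtain ⟨hM1, hcyc⟩ := Finset.mem_filter.mp hM
    obtain ⟨hM'1, hM'E⟩ := Finset.mem_filter.mp hM'
    refine Finset.mem_filter.mpr ⟨hM'1, ?_⟩
    by_cases hMM' : M' = M
    · exact hMM' ▸ hcyc
    obtain ⟨m, rfl⟩ := (Subgroup.isCyclic_iff_exists_zpowers_eq_top M).mp hcyc
    have hmK : m ∈ K := (mem_maxs.mp hM1).1 (mem_zpowers m)
    have hord : orderOf m = 2 ^ (n - 1) := by
      rw [← Nat.card_zpowers]; exact card_max hn (by omega) hM1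
    have hmM' : m ∉ M' := fun h => hMM' (eq_of_le_of_card_ge (zpowers_le.mpr h)
      (by rw [card_max hn (by omega) hM1, card_max hn (by omega) hM'1])).symm
    obtain ⟨e, he, heM'⟩ := SetLike.not_le_iff_exists.mp hM'E
    have hem : e * m ∈ M' := mul_mem_max hK hM'1 (hEK he) heM' hmK hmM'
    -- the square of `e * m`
    have hw : e * (m * e * m⁻¹) ∈ E := mul_mem he (hEn m hmK e he)
    have hwM : e * (m * e * m⁻¹) ∈ zpowers m := by
      have := mul_mem (conj_mem_max hK hM1 (hEK he) (mem_zpowers m)) (inv_mem (mem_zpowers m))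
      have hei : e⁻¹ = e := inv_eq_of_mul_eq_one_right (by rw [← sq]; exact hE2 e he)
      rw [hei] at this
      simpa [mul_assoc] using this
    obtain ⟨i, hi⟩ := mem_zpowers_iff.mp hwM
    have hsq : (e * m) ^ 4 = m ^ 4 := by
      have h1 : (e * m) ^ 2 = m ^ i * m ^ 2 := by rw [hi]; simp [sq, mul_assoc]
      rw [show 4 = 2 * 2 by rfl, pow_mul, h1, (Commute.pow_right (Commute.zpow_self m i) 2).mul_pow, hi,
        hE2 _ hw, one_mul, ← pow_mul]
    have hordem : orderOf (e * m) = 2 ^ (n - 1) := by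
      rw [show n - 1 = n - 2 + 1 by omega]
      refine orderOf_eq_prime_pow ?_ ?_
      · rw [show 2 ^ (n - 2) = 4 * 2 ^ (n - 4) by
            rw [show n - 2 = 2 + (n - 4) by omega, pow_add]; rfl, pow_mul, hsq, ← pow_mul]
        intro h
        rw [← orderOf_dvd_iff_pow_eq_one, hord, show 4 * 2 ^ (n - 4) = 2 ^ (n - 2) by
            rw [show n - 2 = 2 + (n - 4) by omega, pow_add]; rfl,
          Nat.pow_dvd_pow_iff_le_right one_lt_two] at h
        omega
      · rw [show 2 ^ (n - 2 + 1) = 4 * 2 ^ (n - 3) by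
            rw [show n - 2 + 1 = 2 + (n - 3) by omega, pow_add]; rfl, pow_mul, hsq, ← pow_mul,
          show 4 * 2 ^ (n - 3) = 2 ^ (n - 1) by
            rw [show n - 1 = 2 + (n - 3) by omega, pow_add]; rfl, ← hord, pow_orderOf_eq_one]
    refine (Subgroup.isCyclic_iff_exists_zpowers_eq_top M').mpr
      ⟨e * m, eq_of_le_of_card_ge (zpowers_le.mpr hem) ?_⟩
    rw [Nat.card_zpowers, hordem, card_max hn (by omega) hM'1]
  rw [heq]
  exact two_dvd_card_avoid hn hEK hEc (by omega)

include hn hEK hEn hEc hE2 in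
/-- The maximal subgroups without four subgroup are even in number. -/
theorem two_dvd_card_fourfree_maxs (hn5 : 5 ≤ n) :
    2 ∣ ((maxs 2 K).filter fun M : Subgroup G => ¬ HasFour M).card := by
  have hK : IsPGroup 2 K := IsPGroup.of_card hn
  set Av := (maxs 2 K).filter fun M => ¬ E ≤ M with hAv
  have hsub : ((maxs 2 K).filter fun M : Subgroup G => ¬ HasFour M) ⊆ Av := by
    intro M hM
    obtain ⟨hM1, hM2⟩ := Finset.mem_filter.mp hM
    exact Finset.mem_filter.mpr ⟨hM1, fun h => hM2 ((hasFour_iff M).mpr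
      ⟨E, h, fun k hk => hEn k ((mem_maxs.mp hM1).1 hk), hEc, hE2⟩)⟩
  rcases ((maxs 2 K).filter fun M : Subgroup G => ¬ HasFour M).eq_empty_or_nonempty with h0 | ⟨M, hM⟩
  · rw [h0, Finset.card_empty]; exact dvd_zero 2
  have heq : ((maxs 2 K).filter fun M : Subgroup G => ¬ HasFour M) = Av := by
    refine Finset.Subset.antisymm hsub fun M' hM' => ?_
    obtain ⟨hM1, hfree⟩ := Finset.mem_filter.mp hM
    obtain ⟨hM'1, hM'E⟩ := Finset.mem_filter.mp hM'
    refine Finset.mem_filter.mpr ⟨hM'1, fun hfour => ?_⟩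
    have hMM' : M ≠ M' := fun h => hfree (h ▸ hfour)
    obtain ⟨F, hFle, hFn, hFc, hF2⟩ := (hasFour_iff M').mp hfour
    obtain ⟨hM'K, hM'c⟩ := mem_maxs.mp hM'1
    obtain ⟨hMK, hMc⟩ := mem_maxs.mp hM1
    obtain ⟨e0, he0, he0M'⟩ := SetLike.not_le_iff_exists.mp hM'E
    set Q := F ⊔ E with hQ
    have hQK : Q ≤ K := sup_le (hFle.trans hM'K) hEK
    -- `Q` is normalised by `K`
    have hQn : ∀ k ∈ K, ∀ q ∈ Q, k * q * k⁻¹ ∈ Q := by
      have step : ∀ k : G, (∀ f ∈ F, k * f * k⁻¹ ∈ Q) → (∀ e ∈ E, k * e * k⁻¹ ∈ Q) →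
          ∀ q ∈ Q, k * q * k⁻¹ ∈ Q := by
        intro k h1 h2 q hq
        have hle : Q ≤ Q.comap (MulAut.conj k).toMonoidHom := sup_le h1 h2
        exact hle hq
      have hM'Q : ∀ k ∈ M', ∀ q ∈ Q, k * q * k⁻¹ ∈ Q := fun k hk =>
        step k (fun f hf => mem_sup_left (hFn k hk f hf))
          (fun e he => mem_sup_right (hEn k (hM'K hk) e he))
      intro k hk q hq
      by_cases hkM' : k ∈ M'
      · exact hM'Q k hkM' q hq
      have h1 := mul_mem_max hK hM'1 hk hkM' (hEK he0) he0M'
      have he0Q : e0 ∈ Q := mem_sup_right he0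
      rw [show k * q * k⁻¹ = k * e0 * (e0⁻¹ * q * e0) * (k * e0)⁻¹ by group]
      exact hM'Q _ h1 _ (mul_mem (mul_mem (inv_mem he0Q) hq) he0Q)
    -- order of `Q ⊓ M`
    have hQcard : 4 ≤ Nat.card ↥(Q ⊓ M) := by
      obtain ⟨j, hj⟩ := IsPGroup.iff_card.mp (hK.to_le hQK)
      have h1 : 4 < Nat.card Q := by
        refine lt_of_le_of_ne (hFc ▸ card_le_of_le le_sup_left) fun h => hM'E ?_
        have := eq_of_le_of_card_ge (le_sup_left : F ≤ Q) (by rw [hFc, ← h])
        exact (le_sup_right.trans this.ge).trans hFle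
      have h2 : M.relIndex Q ≤ 2 := by
        have h3 : M.relIndex K = 2 := by
          have h := (M.subgroupOf K).card_mul_index
          rw [Nat.card_congr (subgroupOfEquivOfLe hMK).toEquiv, ← hMc] at h
          exact Nat.eq_of_mul_eq_mul_left Nat.card_pos h
        exact h3 ▸ relIndex_le_of_le_right hQK (by rw [h3]; omega)
      have h4 := (M.subgroupOf Q).card_mul_index
      rw [← inf_subgroupOf_left, Nat.card_congr (subgroupOfEquivOfLe inf_le_left).toEquiv,
        ← relIndex, inf_relIndex_left] at h4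
      have h5 : 8 ≤ Nat.card Q := by
        rcases le_or_gt j 2 with h | h
        · have := Nat.pow_le_pow_right (n := 2) two_pos h; omega
        · have := Nat.pow_le_pow_right (n := 2) two_pos (show 3 ≤ j from h); omega
      by_contra hlt
      have : Nat.card ↥(Q ⊓ M) * M.relIndex Q ≤ 3 * 2 := Nat.mul_le_mul (by omega) h2
      omega
    -- a normal cyclic subgroup of order four of `M`
    have hMp : IsPGroup 2 M := hK.to_le hMK
    haveI hQMn : ((Q ⊓ M).subgroupOf M).Normal := ⟨fun a ha k => mem_inf.mpr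
      ⟨hQn k (hMK k.2) a (mem_inf.mp ha).1, (k * a * k⁻¹).2⟩⟩
    obtain ⟨A, hAn, hAc, hAle⟩ := exists_normal_card_four hMp ((Q ⊓ M).subgroupOf M)
      (by rw [Nat.card_congr (subgroupOfEquivOfLe inf_le_right).toEquiv]; exact hQcard)
    haveI := hAn
    obtain ⟨f0, hf0A, hf02⟩ : ∃ f0 ∈ A, f0 ^ 2 ≠ 1 := by
      by_contra hall; push Not at hall; exact hfree ⟨A, hAn, hAc, hall⟩
    -- it lies in `M'`
    have hf0M' : (f0 : G) ∈ M' := by
      haveI hWn : (M'.subgroupOf M).Normal :=
        normal_subgroupOf_of_le_normalizer (hMK.trans (le_normalizer_max hK hM'1))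
      set CA := centralizer (A : Set M) with hCA
      set W := M'.subgroupOf M ⊓ CA with hW
      have hAcomm : ∀ a ∈ A, ∀ b ∈ A, Commute a b := fun a ha b hb => by
        haveI := IsPGroup.isMulCommutative_of_card_eq_prime_sq (p := 2) (G := A) (by rw [hAc]; rfl)
        exact congrArg Subtype.val (mul_comm' (⟨a, ha⟩ : A) ⟨b, hb⟩)
      have hMc' : Nat.card M = 2 ^ (n - 1) := card_max hn (by omega) hM1
      have hW4 : 4 ≤ Nat.card W := by
        have h1 : (M'.subgroupOf M).index = 2 := by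
          have h := card_inf hK hM1 hM'1 hMM'
          have h' := (M'.subgroupOf M).card_mul_index
          rw [← inf_subgroupOf_left, Nat.card_congr (subgroupOfEquivOfLe inf_le_left).toEquiv] at h'
          rw [← hMc, ← h', inf_subgroupOf_left] at h
          exact (Nat.eq_of_mul_eq_mul_left Nat.card_pos (Nat.eq_of_mul_eq_mul_right two_pos h)).symm
        have h2 : CA.index ≤ 2 := by
          -- a group of order four with a square `≠ 1` has automorphism group of order two
          by_cases htop : CA = ⊤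
          · rw [htop, index_top]; omega
          obtain ⟨g, hg⟩ : ∃ g, g ∉ CA := by
            by_contra hall; push Not at hall; exact htop (eq_top_iff.mpr fun x _ => hall x)
          refine le_of_eq (index_eq_two_iff.mpr ⟨g, fun b => ?_⟩)
          have hA4 : ∀ a ∈ A, a ^ 4 = 1 := fun a ha => by
            have := congrArg Subtype.val (pow_card_eq_one' (x := (⟨a, ha⟩ : A)))
            rwa [hAc] at this
          have hf0o : orderOf f0 = 4 := orderOf_eq_prime_pow (p := 2) (n := 1)
            (by simpa using hf02) (by simpa using hA4 f0 hf0A)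
          have hAeq : zpowers f0 = A := eq_of_le_of_card_ge (zpowers_le.mpr hf0A)
            (by rw [Nat.card_zpowers, hf0o, hAc])
          have hmemCA : ∀ c, c ∈ CA ↔ c * f0 * c⁻¹ = f0 := fun c => by
            rw [mem_centralizer_iff, mul_inv_eq_iff_eq_mul]
            refine ⟨fun h => (h f0 hf0A).symm, fun h a ha => ?_⟩
            rw [← hAeq] at ha
            obtain ⟨i, rfl⟩ := mem_zpowers_iff.mp ha
            exact (Commute.zpow_right h i).eq.symm
          have hcases : ∀ c, c ∉ CA → c * f0 * c⁻¹ = f0 ^ 3 := fun c hc => by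
            obtain ⟨i, hi⟩ := (mem_powers_iff_mem_zpowers.mpr
              (show c * f0 * c⁻¹ ∈ zpowers f0 by rw [hAeq]; exact hAn.conj_mem f0 hf0A c))
            have hi' : f0 ^ (i % 4) = c * f0 * c⁻¹ := by rw [← hf0o, pow_mod_orderOf]; exact hi
            have hord : orderOf (f0 ^ (i % 4)) = 4 := by
              rw [hi']; exact (orderOf_injective (MulAut.conj c).toMonoidHom (MulAut.conj c).injective f0).trans hf0o
            obtain h | h | h | h : i % 4 = 0 ∨ i % 4 = 1 ∨ i % 4 = 2 ∨ i % 4 = 3 := by omega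
            · rw [h, pow_zero, orderOf_one] at hord; omega
            · exact absurd ((hmemCA c).mpr (by rw [← hi', h, pow_one])) hc
            · rw [h, orderOf_pow' _ two_ne_zero, hf0o] at hord; norm_num at hord
            · rw [← hi', h]
          by_cases hb : b ∈ CA
          · refine Or.inr ⟨hb, fun h => hg ?_⟩
            have := CA.mul_mem (CA.inv_mem hb) h
            rwa [inv_mul_cancel_left] at this
          · refine Or.inl ⟨(hmemCA _).mpr ?_, hb⟩
            rw [show b * g * f0 * (b * g)⁻¹ = b * (g * f0 * g⁻¹) * b⁻¹ by group, hcases g hg, ← conj_pow,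
              hcases b hb, ← pow_mul]
            calc f0 ^ (3 * 3) = f0 ^ (4 + 4 + 1) := rfl
              _ = f0 := by rw [pow_succ, pow_add, hA4 f0 hf0A, one_mul, one_mul]
        have h3 := W.card_mul_index
        have h4 : W.index ≤ 4 := (index_inf_le (H := M'.subgroupOf M) (K := CA)).trans (by rw [h1]; omega)
        rw [hMc'] at h3
        have : 2 ^ 4 ≤ 2 ^ (n - 1) := Nat.pow_le_pow_right two_pos (by omega)
        by_contra hlt
        have : Nat.card W * W.index ≤ 3 * 4 := Nat.mul_le_mul (by omega) h4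
        omega
      obtain ⟨A', hA'n, hA'c, hA'le⟩ := exists_normal_card_four hMp W hW4
      haveI := hA'n
      have hAA : A = A' := eq_of_normal_four hMp hfree hAc hA'c fun a ha b hb =>
        mem_centralizer_iff.mp (mem_inf.mp (hA'le hb)).2 a ha
      exact (mem_inf.mp (hA'le (hAA ▸ hf0A))).1
    -- contradiction
    have hf0Q : (f0 : G) ∈ Q := (mem_inf.mp (hAle hf0A)).1
    have hnorm : F ≤ normalizer (E : Set G) := fun f hf => by
      rw [mem_normalizer_iff]
      have hfK := hM'K (hFle hf)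
      exact fun e => ⟨hEn f hfK e, fun h => by simpa [mul_assoc] using hEn f⁻¹ (inv_mem hfK) _ h⟩
    rw [← SetLike.mem_coe, hQ, coe_mul_of_left_le_normalizer_right _ _ hnorm] at hf0Q
    obtain ⟨f, hf, e, he, hfe⟩ := hf0Q
    replace hfe : f * e = (f0 : G) := hfe
    have heM' : e ∈ M' := by
      have := mul_mem (inv_mem (hFle hf)) (hfe ▸ hf0M')
      rwa [inv_mul_cancel_left] at this
    have hcomm : f * e = e * f := by
      by_cases he1 : e = 1
      · simp [he1]
      have hne : f * e * f⁻¹ ≠ 1 := fun h => he1 (conj_eq_one_iff.mp h)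
      have hfM' : f * e * f⁻¹ ∈ M' := mul_mem (mul_mem (hFle hf) heM') (inv_mem (hFle hf))
      have hfE := hEn f (hM'K (hFle hf)) e he
      -- `E ⊓ M'` has order two
      have hcard : Nat.card ↥(E ⊓ M') ≤ 2 := by
        obtain ⟨c, hc⟩ := card_dvd_of_le (inf_le_left : E ⊓ M' ≤ E)
        have hlt : Nat.card ↥(E ⊓ M') ≠ Nat.card E := fun h => hM'E
          ((eq_of_le_of_card_ge inf_le_left h.ge).ge.trans inf_le_right)
        rw [hEc] at hc hlt
        have := (Nat.dvd_prime_pow Nat.prime_two).mp (⟨c, hc⟩ : Nat.card ↥(E ⊓ M') ∣ 2 ^ 2)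
        obtain ⟨j, hj, hje⟩ := this
        interval_cases j <;> omega
      have huniq : ∀ u ∈ E ⊓ M', u ≠ 1 → u = e := by
        intro u hu hu1
        by_contra hne'
        have : ({1, u, e} : Finset G).card ≤ 2 := by
          refine le_trans ?_ hcard
          rw [← SetLike.coe_sort_coe, Nat.card_coe_set_eq, Set.ncard_eq_toFinset_card']
          refine Finset.card_le_card fun v hv => ?_
          simp only [Finset.mem_insert, Finset.mem_singleton] at hv
          rw [Set.mem_toFinset, SetLike.mem_coe]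
          rcases hv with h | h | h <;> rw [h]
          exacts [one_mem _, hu, mem_inf.mpr ⟨he, heM'⟩]
        rw [Finset.card_insert_of_notMem (by simp [Ne.symm hu1, Ne.symm he1]), Finset.card_pair hne'] at this
        omega
      exact mul_inv_eq_iff_eq_mul.mp (huniq _ (mem_inf.mpr ⟨hfE, hfM'⟩) hne)
    refine hf02 (Subtype.ext ?_)
    push_cast
    rw [← hfe, (show Commute f e from hcomm).mul_pow, hF2 f hf, hE2 e he, one_mul]
  rw [heq]
  exact two_dvd_card_avoid hn hEK hEc (by omega)

end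

theorem not_cyclic_of_hasFour {K : Subgroup G} (h : HasFour K) : ¬ IsCyclic K := by
  intro hc
  obtain ⟨E, hle, -, hEc, hE2⟩ := (hasFour_iff K).mp h
  exact not_le_of_cyclic (M := K) hEc hE2 hle

/-- **Miller's congruence**: in a 2-group of order at least 16 with a normal four subgroup, the
number of subgroups of every proper order is `3` modulo four. -/
theorem card_subs_mod_four : ∀ (n : ℕ) {a : ℕ} (K : Subgroup G), Nat.card K = 2 ^ n → 4 ≤ n →
    HasFour K → 1 ≤ a → a < n → ((subs 2 a K).card : ZMod 4) = 3 := by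
  intro n
  induction n using Nat.strong_induction_on with
  | _ n IH =>
    intro a K hn hn4 hfour ha han
    have hK : IsPGroup 2 K := IsPGroup.of_card hn
    have hnc := not_cyclic_of_hasFour hfour
    obtain ⟨E, hEK, hEn, hEc, hE2⟩ := (hasFour_iff K).mp hfour
    have hT : ((maxs 2 K).card : ZMod 4) = 1 + 2 := card_maxs_mod_sq hK hnc
    rcases eq_or_lt_of_le ha with rfl | ha2
    · have h : {g : G | g ∈ K ∧ g ^ 2 = 1} = (fun g : K => (g : G)) '' {g : K | g ^ 2 = 1} := by
        ext g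
        constructor
        · rintro ⟨hg, hg2⟩
          exact ⟨⟨g, hg⟩, Subtype.ext (by simpa using hg2), rfl⟩
        · rintro ⟨⟨g, hg⟩, hg2, rfl⟩
          exact ⟨hg, by simpa using congrArg Subtype.val (Set.mem_ofPred_eq.mp hg2)⟩
      have h2 := card_subs_one_mod_four (K := K) (by
        rw [h, Set.ncard_image_of_injective _ Subtype.val_injective]
        exact four_dvd_ncard_sq_eq_one hn hn4 hfour)
      rw [show (3 : ZMod 4) = ((3 : ℕ) : ZMod 4) from rfl, ZMod.natCast_eq_natCast_iff']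
      omega
    by_cases hlast : a + 1 = n
    · have hset : subs 2 a K = maxs 2 K := by
        ext M
        rw [mem_subs, mem_maxs, hn]
        constructor
        · rintro ⟨h1, h2⟩
          exact ⟨h1, by rw [h2, ← pow_succ, hlast]⟩
        · rintro ⟨h1, h2⟩
          refine ⟨h1, Nat.eq_of_mul_eq_mul_right two_pos (h2.trans ?_)⟩
          rw [← pow_succ, hlast]
      rw [hset, hT]
      rfl
    have hbot : (⊥ : Subgroup G) < K := bot_lt_iff_ne_bot.2 fun h => hnc (h ▸ inferInstance)
    have hI : ((maxs 2 K).card : ZMod 4) = 1 + 2 * (meets 2 K ⊥).card := by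
      have h := (card_maxs_congr hK hbot).2
      rw [Finset.filter_true_of_mem fun M _ => bot_le] at h
      exact h
    rw [hT, add_right_inj] at hI
    have hE : ((subs 2 a K).card : ZMod 4) + 2 * ∑ D ∈ meets 2 K ⊥, ((subs 2 a D).card : ZMod 4) =
        ∑ M ∈ maxs 2 K, ((subs 2 a M).card : ZMod 4) :=
      (card_subs_eq hK (hn ▸ pow_dvd_pow 2 han)).2
    have hmeets : ∀ D ∈ meets 2 K ⊥, (2 : ZMod 4) * ((subs 2 a D).card : ZMod 4) = 2 := by
      intro D hD
      obtain ⟨⟨M, M'⟩, hx, rfl⟩ := Finset.mem_image.1 hD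
      obtain ⟨hM, hM', hne⟩ := Finset.mem_offDiag.1 hx
      have h := card_inf hK (Finset.mem_filter.1 hM).1 (Finset.mem_filter.1 hM').1 hne
      have hc : Nat.card ↥(M ⊓ M') = 2 ^ (n - 2) := by
        refine Nat.eq_of_mul_eq_mul_right two_pos (Nat.eq_of_mul_eq_mul_right two_pos (h.trans ?_))
        rw [hn, ← pow_succ, ← pow_succ]; congr 1; omega
      have h1 := card_subs_mod_p (p := 2) (a := a) (IsPGroup.of_card hc) (hc ▸ pow_dvd_pow 2 (by omega))
      have h2 : (2 : ZMod 4) * ((subs 2 a (M ⊓ M')).card : ZMod 4) = 2 := by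
        have := mul_p_congr (p := 2) (u := (subs 2 a (M ⊓ M')).card) (v := 1) (by rw [h1, Nat.cast_one])
        rwa [Nat.cast_one, mul_one] at this
      exact h2
    have hsumD : (2 : ZMod 4) * ∑ D ∈ meets 2 K ⊥, ((subs 2 a D).card : ZMod 4) = 2 := by
      rw [Finset.mul_sum, Finset.sum_congr rfl hmeets, Finset.sum_const, nsmul_eq_mul, mul_comm]
      exact hI.symm
    -- the bad maximal subgroups
    obtain ⟨P, hP2, hPval⟩ : ∃ P : Subgroup G → Prop, 2 ∣ ((maxs 2 K).filter P).card ∧
        ∀ M ∈ maxs 2 K, ((subs 2 a M).card : ZMod 4) = 3 - (if P M then 2 else 0) := by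
      by_cases hsec : a + 2 = n
      · refine ⟨fun M => IsCyclic M, two_dvd_card_cyclic_maxs hn hEK hEn hEc hE2 hn4, fun M hM => ?_⟩
        have hMc := card_max hn (by omega) hM
        split_ifs with hc
        · rw [card_subs_cyclic hc (hMc ▸ pow_dvd_pow 2 (by omega)), Nat.cast_one]; rfl
        · have hset : subs 2 a M = maxs 2 M := by
            ext L
            rw [mem_subs, mem_maxs, hMc, show n - 1 = a + 1 by omega, pow_succ]
            exact and_congr_right fun _ => ⟨fun h => by rw [h], Nat.eq_of_mul_eq_mul_right two_pos⟩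
          rw [hset]
          exact (card_maxs_mod_sq (IsPGroup.of_card hMc) hc).trans (by rfl)
      · refine ⟨fun M => ¬ HasFour M, by convert two_dvd_card_fourfree_maxs hn hEK hEn hEc hE2 (by omega),
          fun M hM => ?_⟩
        have hMc := card_max hn (by omega) hM
        split_ifs with hc
        · have h1 := card_subs_top_no_four (X := M) (a := a) hMc (by omega) hc (by omega) (by omega)
          rw [card_subs_top] at h1
          rw [show (3 : ZMod 4) - 2 = ((1 : ℕ) : ZMod 4) from rfl, ZMod.natCast_eq_natCast_iff']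
          omega
        · rw [sub_zero]
          exact IH (n - 1) (by omega) M hMc (by omega) (not_not.mp hc) ha (by omega)
    rw [hsumD, Finset.sum_congr rfl hPval, Finset.sum_sub_distrib, Finset.sum_const, nsmul_eq_mul, hT,
      ← Finset.sum_filter, Finset.sum_const, nsmul_eq_mul] at hE
    have hz : (((maxs 2 K).filter P).card : ZMod 4) * 2 = 0 := by
      obtain ⟨c, hc⟩ := hP2
      rw [hc, Nat.cast_mul, mul_right_comm]
      exact (by rw [show ((2 : ℕ) : ZMod 4) * 2 = 0 from rfl, zero_mul])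
    rw [hz] at hE
    rw [eq_sub_of_add_eq hE]
    rfl

end CfsgLib.SubgroupCounts69
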